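import Mathlib
import Cfsg.Agent.Lib.Helper62.EPSocle

/-!
# Ladder CL (S5722): composition length of a permutation group is at most 4(n - r)/3

Definitions only.
-/

set_option autoImplicit false

namespace Cfsg.Agent.Lib.Helper47.CL

open MulAction

/-- strict subnormal chain of length `l` from `⊥` to `⊤` (same shape as in S5722) -/
def SubCh (G : Type*) [Group G] (l : ℕ) : Prop :=
  ∃ H : Fin (l + 1) → Subgroup G, H 0 = ⊥ ∧ H (Fin.last l) = ⊤ ∧
    ∀ i : Fin l, H i.castSucc < H i.succ ∧ ((H i.castSucc).subgroupOf (H i.succ)).Normal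

/-- the largest length of a strict subnormal chain (= composition length for finite `G`) -/
noncomputable def mu (G : Type*) [Group G] : ℕ := sSup {l | SubCh G l}

/-- number of orbits -/
noncomputable def orb (G : Type*) (Ω : Type*) [Group G] [MulAction G Ω] : ℕ :=
  Nat.card (Quotient (MulAction.orbitRel G Ω))

/-- the bound `3 μ(G) ≤ 4 (n - r)` in additive form -/
def Bd (G : Type*) (Ω : Type*) [Group G] [MulAction G Ω] : Prop :=
  3 * mu G + 4 * orb G Ω ≤ 4 * Nat.card Ω

/-- the bound holds for all permutation groups of degree `n` -/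
def Good (n : ℕ) : Prop := ∀ S : Subgroup (Equiv.Perm (Fin n)), Bd S (Fin n)

/-- the set of `G`-conjugates of `T` -/
def fac {G : Type*} [Group G] (T : Subgroup G) : Set (Subgroup G) :=
  Set.range (fun g : G => Cfsg.Agent.Lib.Helper40.cj g T)

/-- the union of the orbits `A • α`, `A` a conjugate of `T`, without `α` -/
def Gam {G Ω : Type*} [Group G] [MulAction G Ω] (T : Subgroup G) (α : Ω) : Set Ω :=
  {β | β ≠ α ∧ ∃ A ∈ fac T, ∃ x ∈ A, β = x • α}

end Cfsg.Agent.Lib.Helper47.CL
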