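import Mathlib
import Cfsg.Agent.Lib.Helper47.CL.Defs

set_option autoImplicit false

namespace Cfsg.Agent.Lib.Helper47.CL

open MulAction Subgroup Cfsg.Agent.Lib.Helper40 Cfsg.Agent.Lib.Helper62
open Cfsg.Agent.S3680 (MN)

variable {G Ω : Type*} [Group G] [Finite G] [Finite Ω] [MulAction G Ω] [FaithfulSMul G Ω]

omit [Finite G] [Finite Ω] [FaithfulSMul G Ω] in
theorem reg_inj (α : Ω) (M : Subgroup G) (h : M ⊓ stabilizer G α = ⊥) :
    Function.Injective (fun m : M => (m : G) • α) := by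
  intro a b hab
  have hab' : (a : G) • α = (b : G) • α := hab
  have h1 : (b : G)⁻¹ * a ∈ M ⊓ stabilizer G α :=
    Subgroup.mem_inf.mpr ⟨M.mul_mem (M.inv_mem b.2) a.2,
      by rw [mem_stabilizer_iff, mul_smul, hab', inv_smul_smul]⟩
  rw [h, Subgroup.mem_bot, inv_mul_eq_one] at h1
  exact Subtype.ext h1.symm

-- RUNG REG (file REG.lean).  orbit-stabilizer for a subgroup M.
omit [Finite G] [FaithfulSMul G Ω] in
theorem card_le_of_semiregular (α : Ω) (M : Subgroup G) (h : M ⊓ stabilizer G α = ⊥) :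
    Nat.card M ≤ Nat.card Ω :=
  Nat.card_le_card_of_injective _ (reg_inj α M h)

set_option linter.unusedSectionVars false in
omit [Finite G] [FaithfulSMul G Ω] in
theorem card_eq_of_regular (α : Ω) (M : Subgroup G) (h : M ⊓ stabilizer G α = ⊥)
    (ht : ∀ y : Ω, ∃ m ∈ M, m • α = y) : Nat.card M = Nat.card Ω := by
  apply Nat.card_eq_of_bijective (fun m : M => (m : G) • α)
  refine ⟨reg_inj α M h, ?_⟩
  intro y
  obtain ⟨m, hm, hy⟩ := ht y
  exact ⟨⟨m, hm⟩, hy⟩

-- h ∈ H fixing a • α, a ∈ M (M normalized by h, M ⊓ H = ⊥) commutes with a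
omit [Finite G] [Finite Ω] [FaithfulSMul G Ω] in
theorem commute_of_fix (α : Ω) (M : Subgroup G) (h0 : M ⊓ stabilizer G α = ⊥) {h a : G}
    (hh : h ∈ stabilizer G α) (hM : h * a * h⁻¹ ∈ M) (ha : a ∈ M) (hfix : h • a • α = a • α) :
    h * a = a * h := by
  have hh' : h⁻¹ • α = α := by
    rw [mem_stabilizer_iff] at hh
    rw [inv_smul_eq_iff, hh]
  have h1 : a⁻¹ * (h * a * h⁻¹) ∈ M ⊓ stabilizer G α := by
    refine Subgroup.mem_inf.mpr ⟨M.mul_mem (M.inv_mem ha) hM, ?_⟩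
    rw [mem_stabilizer_iff, mul_smul, mul_smul, mul_smul, hh', hfix, inv_smul_smul]
  rw [h0, Subgroup.mem_bot, inv_mul_eq_one] at h1
  calc h * a = (h * a * h⁻¹) * h := by group
    _ = a * h := by rw [← h1]

end Cfsg.Agent.Lib.Helper47.CL
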