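import Mathlib
import Cfsg.Agent.Lib.Helper47.CL.Defs
import Cfsg.Agent.Lib.Helper47.CL.REG

set_option autoImplicit false

namespace Cfsg.Agent.Lib.Helper47.CL

open MulAction Subgroup Cfsg.Agent.Lib.Helper40 Cfsg.Agent.Lib.Helper62
open Cfsg.Agent.S3680 (MN)

variable {G Ω : Type*} [Group G] [Finite G] [Finite Ω] [MulAction G Ω] [FaithfulSMul G Ω]

-- RUNG AFFR (file AFFR.lean; imports REG).  S3680.eq_one_of_commute, S3680.elem_abelian, IsPGroup.
set_option linter.unusedSectionVars false in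
theorem aff_reg (hprim : IsPreprimitive G Ω) (α : Ω) {N : Subgroup G} (hN : MN N)
    (hab : ∀ a ∈ N, ∀ b ∈ N, a * b = b * a) : N ⊓ stabilizer G α = ⊥ := by
  rw [Subgroup.eq_bot_iff_forall]
  intro c hc
  exact Cfsg.Agent.S3680.eq_one_of_commute N
    (Cfsg.Agent.S3680.trans_of_normal hprim N hN.1 hN.2.1) c (fun v hv => hab v hv c hc.1) α hc.2

theorem aff_card (hprim : IsPreprimitive G Ω) (α : Ω) {N : Subgroup G} (hN : MN N)
    (hab : ∀ a ∈ N, ∀ b ∈ N, a * b = b * a) :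
    ∃ p k : ℕ, p.Prime ∧ Nat.card N = p ^ k ∧ Nat.card Ω = p ^ k := by
  obtain ⟨p, hp, hpow⟩ := Cfsg.Agent.S3680.elem_abelian N hN hab
  have : Fact p.Prime := ⟨hp⟩
  have hpg : IsPGroup p N := by
    intro x
    refine ⟨1, ?_⟩
    rw [pow_one]
    exact Subtype.ext (hpow x x.2)
  obtain ⟨k, hk⟩ := IsPGroup.iff_card.mp hpg
  refine ⟨p, k, hp, hk, ?_⟩
  rw [← hk]
  exact (card_eq_of_regular α N (aff_reg hprim α hN hab)
    (fun y => Cfsg.Agent.S3680.trans_of_normal hprim N hN.1 hN.2.1 α y)).symm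

end Cfsg.Agent.Lib.Helper47.CL
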