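import Mathlib
import Cfsg.Agent.Lib.Helper47.CL.Defs

set_option autoImplicit false

namespace Cfsg.Agent.Lib.Helper47.CL

open Subgroup

variable {G : Type*} [Group G]

/-- strict subnormal chain from `A` up to `B` of length `l` (inductive form) -/
inductive Ch : Subgroup G → Subgroup G → ℕ → Prop
  | refl (A : Subgroup G) : Ch A A 0
  | step {A B C : Subgroup G} {l : ℕ} : Ch A B l → B < C → C ≤ normalizer (B : Set G) → Ch A C (l + 1)

theorem ch_of_fun {A : Subgroup G} : ∀ (l : ℕ) (B : Subgroup G) (H : Fin (l + 1) → Subgroup G),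
    H 0 = A → H (Fin.last l) = B →
    (∀ i : Fin l, H i.castSucc < H i.succ ∧ ((H i.castSucc).subgroupOf (H i.succ)).Normal) →
    Ch A B l := by
  intro l
  induction l with
  | zero =>
    intro B H h0 hl _
    have : A = B := by rw [← h0, ← hl]; rfl
    subst this
    exact Ch.refl A
  | succ l ih =>
    intro B H h0 hl hs
    have h1 := ih (H (Fin.last l).castSucc) (fun i => H i.castSucc) h0 rfl (fun i => hs i.castSucc)
    have h2 := hs (Fin.last l)
    rw [Fin.succ_last, hl] at h2
    exact Ch.step h1 h2.1 ((normal_subgroupOf_iff_le_normalizer h2.1.le).1 h2.2)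

theorem fun_of_ch {A B : Subgroup G} {l : ℕ} (h : Ch A B l) :
    ∃ H : Fin (l + 1) → Subgroup G, H 0 = A ∧ H (Fin.last l) = B ∧
      ∀ i : Fin l, H i.castSucc < H i.succ ∧ ((H i.castSucc).subgroupOf (H i.succ)).Normal := by
  induction h with
  | refl => exact ⟨fun _ => A, rfl, rfl, fun i => i.elim0⟩
  | @step B C l _ hlt hn ih =>
    obtain ⟨H, h0, hl, hs⟩ := ih
    refine ⟨Fin.snoc H C, ?_, ?_, ?_⟩
    · have : (0 : Fin (l + 1 + 1)) = (0 : Fin (l + 1)).castSucc := rfl
      rw [this, Fin.snoc_castSucc, h0]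
    · exact Fin.snoc_last _ _
    · intro i
      refine Fin.lastCases ?_ (fun j => ?_) i
      · rw [Fin.succ_last, Fin.snoc_last, Fin.snoc_castSucc, hl]
        exact ⟨hlt, (normal_subgroupOf_iff_le_normalizer hlt.le).2 hn⟩
      · have e : (j.castSucc).succ = (j.succ).castSucc := rfl
        rw [e, Fin.snoc_castSucc, Fin.snoc_castSucc]
        exact hs j

theorem subCh_iff {l : ℕ} : SubCh G l ↔ Ch (⊥ : Subgroup G) ⊤ l :=
  ⟨fun ⟨H, h0, hl, hs⟩ => ch_of_fun l ⊤ H h0 hl hs, fun h => fun_of_ch h⟩

theorem Ch.trans {A B C : Subgroup G} {l m : ℕ} (h1 : Ch A B l) (h2 : Ch B C m) : Ch A C (l + m) := by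
  induction h2 with
  | refl => exact h1
  | step _ hlt hn ih => exact Ch.step ih hlt hn

theorem Ch.le {A B : Subgroup G} {l : ℕ} (h : Ch A B l) : A ≤ B := by
  induction h with
  | refl => exact le_rfl
  | step _ hlt _ ih => exact ih.trans hlt.le

theorem Ch.map {G' : Type*} [Group G'] (f : G →* G') (hf : Function.Injective f)
    {A B : Subgroup G} {l : ℕ} (h : Ch A B l) : Ch (A.map f) (B.map f) l := by
  induction h with
  | refl => exact Ch.refl _
  | @step B C l _ hlt hn ih =>
    refine Ch.step ih ((map_lt_map_iff_of_injective hf).2 hlt) ?_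
    exact (Subgroup.map_mono hn).trans (le_normalizer_map f)

theorem Ch.comap {G' : Type*} [Group G'] (f : G' →* G) (hf : Function.Surjective f)
    {A B : Subgroup G} {l : ℕ} (h : Ch A B l) : Ch (A.comap f) (B.comap f) l := by
  induction h with
  | refl => exact Ch.refl _
  | @step B C l _ hlt hn ih =>
    refine Ch.step ih ?_ ?_
    · exact (comap_lt_comap_of_surjective hf).2 hlt
    · exact (Subgroup.comap_mono hn).trans (le_normalizer_comap f)

end Cfsg.Agent.Lib.Helper47.CL
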