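import Mathlib
import Cfsg.Agent.Lib.Helper47.CL.Defs
import Cfsg.Agent.Lib.Helper47.CL.MUI

set_option autoImplicit false

namespace Cfsg.Agent.Lib.Helper47.CL

open MulAction Subgroup

variable {G : Type*} [Group G]

theorem MUO_ch [Finite G] {A B : Subgroup G} {l : ℕ} (h : Ch A B l) :
    ArithmeticFunction.cardFactors (Nat.card A) + l ≤ ArithmeticFunction.cardFactors (Nat.card B) := by
  induction h with
  | refl => simp
  | @step B C l _ hlt _ ih =>
    have h1 : Nat.card C = Nat.card B * B.relIndex C := by
      have := Subgroup.relIndex_mul_relIndex ⊥ B C bot_le hlt.le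
      rw [Subgroup.relIndex_bot_left, Subgroup.relIndex_bot_left] at this
      exact this.symm
    have hB : Nat.card B ≠ 0 := Nat.card_pos.ne'
    have hr0 : B.relIndex C ≠ 0 := by
      intro h0
      rw [h0, mul_zero] at h1
      exact Nat.card_pos.ne' h1
    have hr1 : B.relIndex C ≠ 1 := by
      intro h0
      exact (not_le_of_gt hlt) (Subgroup.relIndex_eq_one.1 h0)
    have h2 : 1 ≤ ArithmeticFunction.cardFactors (B.relIndex C) := by
      rw [Nat.one_le_iff_ne_zero]
      intro h0
      rw [ArithmeticFunction.cardFactors_eq_zero_iff_eq_zero_or_one] at h0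
      rcases h0 with h0 | h0
      · exact hr0 h0
      · exact hr1 h0
    rw [h1, ArithmeticFunction.cardFactors_mul hB hr0]
    omega

-- RUNG MUO
theorem subCh_le_cardFactors [Finite G] {l : ℕ} (h : SubCh G l) :
    l ≤ ArithmeticFunction.cardFactors (Nat.card G) := by
  have h1 := MUO_ch (subCh_iff.1 h)
  rw [Subgroup.card_top] at h1
  omega

end Cfsg.Agent.Lib.Helper47.CL
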