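import Mathlib
import Cfsg.Agent.Lib.Helper47.CL.Defs
import Cfsg.Agent.Lib.Helper47.CL.MUI
import Cfsg.Agent.Lib.Helper47.CL.MUO

set_option autoImplicit false

namespace Cfsg.Agent.Lib.Helper47.CL

open MulAction Subgroup

variable {G : Type*} [Group G]

theorem MUB_bdd [Finite G] : BddAbove {l | SubCh G l} :=
  ⟨ArithmeticFunction.cardFactors (Nat.card G), fun _ h => subCh_le_cardFactors h⟩

theorem MUB_nonempty : {l | SubCh G l}.Nonempty := by
  by_cases h : (⊥ : Subgroup G) = ⊤
  · refine ⟨0, subCh_iff.2 ?_⟩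
    rw [← h]
    exact Ch.refl _
  · refine ⟨1, subCh_iff.2 ?_⟩
    refine Ch.step (Ch.refl _) (lt_of_le_of_ne bot_le h) ?_
    intro x _
    rw [mem_normalizer_iff]
    intro y
    simp

-- RUNG MUB
theorem le_mu [Finite G] {l : ℕ} (h : SubCh G l) : l ≤ mu G := le_csSup MUB_bdd h

theorem subCh_mu [Finite G] : SubCh G (mu G) := Nat.sSup_mem MUB_nonempty MUB_bdd

theorem mu_le_cardFactors [Finite G] : mu G ≤ ArithmeticFunction.cardFactors (Nat.card G) :=
  subCh_le_cardFactors subCh_mu

theorem MUB_two_pow_cardFactors {n : ℕ} (hn : n ≠ 0) : 2 ^ ArithmeticFunction.cardFactors n ≤ n := by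
  induction n using Nat.recOnMul with
  | zero => exact absurd rfl hn
  | one => simp
  | prime p hp =>
    rw [ArithmeticFunction.cardFactors_apply_prime hp]
    simpa using hp.two_le
  | mul a b iha ihb =>
    have ha : a ≠ 0 := fun h => hn (by rw [h, zero_mul])
    have hb : b ≠ 0 := fun h => hn (by rw [h, mul_zero])
    rw [ArithmeticFunction.cardFactors_mul ha hb, pow_add]
    exact Nat.mul_le_mul (iha ha) (ihb hb)

theorem two_pow_mu_le [Finite G] : 2 ^ mu G ≤ Nat.card G :=
  (Nat.pow_le_pow_right (by norm_num) mu_le_cardFactors).trans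
    (MUB_two_pow_cardFactors Nat.card_pos.ne')

theorem prime_mul_two_pow_le [Finite G] {q : ℕ} (hq : q.Prime) (hd : q ∣ Nat.card G) :
    q * 2 ^ (mu G - 1) ≤ Nat.card G := by
  obtain ⟨m, hm⟩ := hd
  have hm0 : m ≠ 0 := by
    intro h
    rw [h, mul_zero] at hm
    exact Nat.card_pos.ne' hm
  have h1 := mu_le_cardFactors (G := G)
  rw [hm, ArithmeticFunction.cardFactors_mul hq.ne_zero hm0,
    ArithmeticFunction.cardFactors_apply_prime hq] at h1
  rw [hm]
  apply Nat.mul_le_mul_left
  exact (Nat.pow_le_pow_right (by norm_num) (by omega)).trans (MUB_two_pow_cardFactors hm0)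

theorem mu_le_of_card_eq_prime_pow [Finite G] {p k : ℕ} (hp : p.Prime) (h : Nat.card G = p ^ k) :
    mu G ≤ k := by
  have h1 := mu_le_cardFactors (G := G)
  rwa [h, ArithmeticFunction.cardFactors_apply_prime_pow hp] at h1

theorem mu_eq_zero [Subsingleton G] : mu G = 0 := by
  have : Finite G := inferInstance
  have h1 := mu_le_cardFactors (G := G)
  rw [Nat.card_of_subsingleton (1 : G)] at h1
  simpa using h1

theorem one_le_mu [Finite G] [Nontrivial G] : 1 ≤ mu G := by
  apply le_mu
  refine subCh_iff.2 ?_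
  refine Ch.step (Ch.refl _) bot_lt_top ?_
  intro x _
  rw [mem_normalizer_iff]
  intro y
  simp

theorem MUB_ch_simple [IsSimpleGroup G] {A B : Subgroup G} {l : ℕ} (h : Ch A B l) (hB : B = ⊤) :
    l ≤ 1 := by
  induction h with
  | refl => omega
  | @step B C l h' hlt hn ih =>
    subst hB
    have hBn : B.Normal := by
      rw [← normalizer_eq_top_iff]
      exact top_le_iff.1 hn
    rcases hBn.eq_bot_or_eq_top with h0 | h0
    · subst h0
      cases h' with
      | refl => omega
      | step _ hlt' _ => exact absurd hlt' (not_lt_bot)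
    · exact absurd hlt (by rw [h0]; exact lt_irrefl _)

theorem mu_simple [Finite G] [IsSimpleGroup G] : mu G = 1 :=
  le_antisymm (MUB_ch_simple (subCh_iff.1 subCh_mu) rfl) one_le_mu

end Cfsg.Agent.Lib.Helper47.CL
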