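import Mathlib
import Cfsg.Agent.Lib.Helper47.CL.Defs
import Cfsg.Agent.Lib.Helper47.CL.MUI

set_option autoImplicit false

namespace Cfsg.Agent.Lib.Helper47.CL

open MulAction Subgroup

variable {G : Type*} [Group G]

-- RUNG MUC
theorem subCh_congr {G' : Type*} [Group G'] (e : G ≃* G') {l : ℕ} (h : SubCh G l) : SubCh G' l := by
  rw [subCh_iff] at h ⊢
  have h1 := h.map e.toMonoidHom e.injective
  rw [Subgroup.map_bot] at h1
  have h2 : (⊤ : Subgroup G).map e.toMonoidHom = ⊤ := by
    rw [← MonoidHom.range_eq_map, MonoidHom.range_eq_top]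
    exact e.surjective
  rwa [h2] at h1

theorem mu_congr {G' : Type*} [Group G'] (e : G ≃* G') : mu G = mu G' := by
  unfold mu
  congr 1
  ext l
  exact ⟨subCh_congr e, subCh_congr e.symm⟩

end Cfsg.Agent.Lib.Helper47.CL
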