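import Mathlib
import Cfsg.Agent.Lib.Helper47.CL.Defs
import Cfsg.Agent.Lib.Helper47.CL.MUI
import Cfsg.Agent.Lib.Helper47.CL.MUB

set_option autoImplicit false

namespace Cfsg.Agent.Lib.Helper47.CL

open MulAction Subgroup

variable {G : Type*} [Group G]

-- RUNG MUGE
theorem mu_add_le [Finite G] (N : Subgroup G) [N.Normal] : mu N + mu (G ⧸ N) ≤ mu G := by
  apply le_mu
  rw [subCh_iff]
  have h1 := (subCh_iff.1 (subCh_mu (G := N))).map N.subtype N.subtype_injective
  have h2 := (subCh_iff.1 (subCh_mu (G := G ⧸ N))).comap (QuotientGroup.mk' N)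
    (QuotientGroup.mk'_surjective N)
  rw [Subgroup.map_bot, ← MonoidHom.range_eq_map, Subgroup.range_subtype] at h1
  have e : (⊥ : Subgroup (G ⧸ N)).comap (QuotientGroup.mk' N) = N := by
    change (QuotientGroup.mk' N).ker = N
    exact QuotientGroup.ker_mk' N
  rw [Subgroup.comap_top, e] at h2
  exact h1.trans h2

end Cfsg.Agent.Lib.Helper47.CL
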