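import Mathlib
import Cfsg.Agent.Lib.Helper47.CL.Defs
import Cfsg.Agent.Lib.Helper47.CL.MUB
import Cfsg.Agent.Lib.Helper47.CL.MUC
import Cfsg.Agent.Lib.Helper47.CL.MUGE

set_option autoImplicit false

namespace Cfsg.Agent.Lib.Helper47.CL

open MulAction Subgroup Cfsg.Agent.Lib.Helper40 Cfsg.Agent.Lib.Helper62
open Cfsg.Agent.S3680 (MN)

variable {G : Type*} [Group G]

-- RUNG MUM.  A ≤ B, A normal in B: mu A ≤ mu B, strict if A < B
theorem mu_le_of_normal_le [Finite G] {A B : Subgroup G} (h : A ≤ B) (hn : B ≤ normalizer (A : Set G)) :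
    mu A ≤ mu B := by
  have hN : (A.subgroupOf B).Normal := Subgroup.normal_subgroupOf_of_le_normalizer hn
  have h1 := mu_add_le (A.subgroupOf B)
  have h2 : mu (A.subgroupOf B) = mu A := mu_congr (Subgroup.subgroupOfEquivOfLe h)
  omega

theorem mu_lt_of_normal_lt [Finite G] {A B : Subgroup G} (h : A < B) (hn : B ≤ normalizer (A : Set G)) :
    mu A + 1 ≤ mu B := by
  have hN : (A.subgroupOf B).Normal := Subgroup.normal_subgroupOf_of_le_normalizer hn
  have h1 := mu_add_le (A.subgroupOf B)
  have h2 : mu (A.subgroupOf B) = mu A := mu_congr (Subgroup.subgroupOfEquivOfLe h.le)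
  have hnt : Nontrivial (B ⧸ A.subgroupOf B) := by
    by_contra hc
    rw [not_nontrivial_iff_subsingleton] at hc
    have htop : A.subgroupOf B = ⊤ := by
      rw [eq_top_iff]
      intro x _
      have := hc.elim (QuotientGroup.mk x : B ⧸ A.subgroupOf B) (QuotientGroup.mk 1)
      rw [QuotientGroup.eq] at this
      simpa using this
    rw [Subgroup.subgroupOf_eq_top] at htop
    exact absurd htop (not_le_of_gt h)
  have h3 := one_le_mu (G := B ⧸ A.subgroupOf B)
  omega

end Cfsg.Agent.Lib.Helper47.CL
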