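import Mathlib
import Cfsg.Agent.Lib.Helper47.CL.Defs
import Cfsg.Agent.Lib.Helper47.CL.MUB
import Cfsg.Agent.Lib.Helper47.CL.MUC
import Cfsg.Agent.Lib.Helper47.CL.MUM

set_option autoImplicit false

namespace Cfsg.Agent.Lib.Helper47.CL

open MulAction Subgroup Cfsg.Agent.Lib.Helper40 Cfsg.Agent.Lib.Helper62
open Cfsg.Agent.S3680 (MN)

variable {G : Type*} [Group G]

theorem mule_congr_eq {A B : Subgroup G} (h : A = B) : mu A = mu B := by
  subst h; rfl

theorem mule_step [Finite G] (N : Subgroup G) [N.Normal] {A B : Subgroup G} (hlt : A < B)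
    (hn : B ≤ normalizer (A : Set G)) :
    mu ↥(A ⊓ N) + mu ↥(A.map (QuotientGroup.mk' N)) + 1 ≤
      mu ↥(B ⊓ N) + mu ↥(B.map (QuotientGroup.mk' N)) := by
  have h1 : A ⊓ N ≤ B ⊓ N := inf_le_inf_right N hlt.le
  have h2 : B ⊓ N ≤ normalizer ((A ⊓ N : Subgroup G) : Set G) := by
    intro x hx
    have hxA := hn hx.1
    rw [Subgroup.mem_normalizer_iff] at hxA ⊢
    intro y
    rw [Subgroup.mem_inf, Subgroup.mem_inf, ← hxA y]
    have : y ∈ N ↔ x * y * x⁻¹ ∈ N := by
      constructor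
      · intro hy; exact ‹N.Normal›.conj_mem y hy x
      · intro hy
        have := ‹N.Normal›.conj_mem _ hy x⁻¹
        simpa [mul_assoc] using this
    rw [this]
  have h3 : A.map (QuotientGroup.mk' N) ≤ B.map (QuotientGroup.mk' N) := Subgroup.map_mono hlt.le
  have h4 : B.map (QuotientGroup.mk' N) ≤
      normalizer ((A.map (QuotientGroup.mk' N) : Subgroup (G ⧸ N)) : Set (G ⧸ N)) :=
    (Subgroup.map_mono hn).trans (Subgroup.le_normalizer_map _)
  have m1 := mu_le_of_normal_le h1 h2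
  have m2 := mu_le_of_normal_le h3 h4
  by_cases e1 : A ⊓ N = B ⊓ N
  · by_cases e2 : A.map (QuotientGroup.mk' N) = B.map (QuotientGroup.mk' N)
    · exfalso
      apply not_le_of_gt hlt
      intro x hx
      have hx' : QuotientGroup.mk' N x ∈ A.map (QuotientGroup.mk' N) := by
        rw [e2]; exact Subgroup.mem_map_of_mem _ hx
      obtain ⟨a, ha, hax⟩ := Subgroup.mem_map.mp hx'
      have hn' : a⁻¹ * x ∈ N := by
        rw [← QuotientGroup.eq]; exact hax
      have hB : a⁻¹ * x ∈ B ⊓ N := ⟨B.mul_mem (B.inv_mem (hlt.le ha)) hx, hn'⟩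
      rw [← e1] at hB
      have := A.mul_mem ha hB.1
      simpa using this
    · have := mu_lt_of_normal_lt (lt_of_le_of_ne h3 e2) h4
      omega
  · have := mu_lt_of_normal_lt (lt_of_le_of_ne h1 e1) h2
    omega

-- RUNG MULE
theorem mu_le_add [Finite G] (N : Subgroup G) [N.Normal] : mu G ≤ mu N + mu (G ⧸ N) := by
  obtain ⟨H, h0, hl, hs⟩ := subCh_mu (G := G)
  have key : ∀ i : ℕ, ∀ hi : i < mu G + 1,
      i ≤ mu ↥(H ⟨i, hi⟩ ⊓ N) + mu ↥((H ⟨i, hi⟩).map (QuotientGroup.mk' N)) := by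
    intro i
    induction i with
    | zero => intro _; exact Nat.zero_le _
    | succ i ih =>
      intro hi
      have hi' : i < mu G := by omega
      have ih' := ih (by omega)
      obtain ⟨hlt, hnor⟩ := hs ⟨i, hi'⟩
      have hn := (Subgroup.normal_subgroupOf_iff_le_normalizer hlt.le).mp hnor
      have := mule_step N hlt hn
      have c1 : (Fin.castSucc ⟨i, hi'⟩ : Fin (mu G + 1)) = ⟨i, by omega⟩ := rfl
      have c2 : (Fin.succ ⟨i, hi'⟩ : Fin (mu G + 1)) = ⟨i + 1, hi⟩ := rfl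
      rw [c1, c2] at this
      omega
  have hk := key (mu G) (by omega)
  have c3 : (⟨mu G, by omega⟩ : Fin (mu G + 1)) = Fin.last (mu G) := rfl
  rw [c3, hl] at hk
  have e1 : mu ↥((⊤ : Subgroup G) ⊓ N) = mu N := mule_congr_eq (by simp)
  have e2 : mu ↥((⊤ : Subgroup G).map (QuotientGroup.mk' N)) = mu (G ⧸ N) := by
    have : (⊤ : Subgroup G).map (QuotientGroup.mk' N) = ⊤ := by
      rw [← MonoidHom.range_eq_map, MonoidHom.range_eq_top]
      exact QuotientGroup.mk'_surjective N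
    rw [mule_congr_eq this]
    exact mu_congr Subgroup.topEquiv
  omega

end Cfsg.Agent.Lib.Helper47.CL
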