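import Mathlib
import Cfsg.Agent.Lib.Helper47.CL.Defs
import Cfsg.Agent.Lib.Helper47.CL.MUB
import Cfsg.Agent.Lib.Helper47.CL.MUC
import Cfsg.Agent.Lib.Helper47.CL.MUGE
import Cfsg.Agent.Lib.Helper47.CL.MULE

set_option autoImplicit false

namespace Cfsg.Agent.Lib.Helper47.CL

open MulAction Subgroup Cfsg.Agent.Lib.Helper40 Cfsg.Agent.Lib.Helper62
open Cfsg.Agent.S3680 (MN)

variable {G : Type*} [Group G]

-- RUNG MUS
theorem mu_add [Finite G] (N : Subgroup G) [N.Normal] : mu G = mu N + mu (G ⧸ N) :=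
  le_antisymm (mu_le_add N) (mu_add_le N)

theorem mu_sup_add_inf [Finite G] (A B : Subgroup G) (h : B ≤ normalizer (A : Set G)) :
    mu ↥(A ⊔ B) + mu ↥(A ⊓ B) = mu A + mu B := by
  have n1 : (A.subgroupOf B).Normal := Subgroup.normal_subgroupOf_of_le_normalizer h
  have n2 : (A.subgroupOf (B ⊔ A)).Normal := Subgroup.normal_subgroupOf_sup_of_le_normalizer h
  have e := QuotientGroup.quotientInfEquivProdNormalizerQuotient B A h
  have a1 := mu_add (A.subgroupOf B)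
  have a2 := mu_add (A.subgroupOf (B ⊔ A))
  have c1 : mu (B ⧸ A.subgroupOf B) = mu (↥(B ⊔ A) ⧸ A.subgroupOf (B ⊔ A)) := mu_congr e
  have c2 : mu (A.subgroupOf (B ⊔ A)) = mu A := mu_congr (Subgroup.subgroupOfEquivOfLe le_sup_right)
  have c3 : mu (A.subgroupOf B) = mu ↥(A ⊓ B) := by
    have : A.subgroupOf B = (A ⊓ B).subgroupOf B := by simp
    rw [mule_congr_eq this]
    exact mu_congr (Subgroup.subgroupOfEquivOfLe inf_le_right)
  have c4 : mu ↥(A ⊔ B) = mu ↥(B ⊔ A) := mule_congr_eq (sup_comm A B)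
  omega

theorem mu_top : mu ↥(⊤ : Subgroup G) = mu G := mu_congr Subgroup.topEquiv

theorem mu_bot : mu ↥(⊥ : Subgroup G) = 0 := mu_eq_zero

end Cfsg.Agent.Lib.Helper47.CL
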