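import Mathlib
import Cfsg.Agent.Lib.Helper47.CL.Defs

set_option autoImplicit false

namespace Cfsg.Agent.Lib.Helper47.CL

open MulAction Subgroup

-- RUNG ORB
theorem orb_le_card {X Y : Type*} [Group X] [Finite Y] [MulAction X Y] : orb X Y ≤ Nat.card Y :=
  Nat.card_le_card_of_surjective (Quotient.mk (MulAction.orbitRel X Y)) Quotient.mk_surjective

theorem orb_eq_one {X Y : Type*} [Group X] [MulAction X Y] [IsPretransitive X Y] [Nonempty Y] :
    orb X Y = 1 := by
  unfold orb
  rw [Nat.card_eq_one_iff_unique]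
  refine ⟨⟨?_⟩, ?_⟩
  · intro a b
    induction a using Quotient.inductionOn with
    | _ a =>
      induction b using Quotient.inductionOn with
      | _ b =>
        apply Quotient.sound
        change a ∈ MulAction.orbit X b
        obtain ⟨g, hg⟩ := MulAction.exists_smul_eq X b a
        exact ⟨g, hg⟩
  · obtain ⟨y⟩ := ‹Nonempty Y›
    exact ⟨Quotient.mk _ y⟩

theorem one_le_orb {X Y : Type*} [Group X] [Finite Y] [MulAction X Y] [Nonempty Y] : 1 ≤ orb X Y := by
  unfold orb
  have : Nonempty (Quotient (MulAction.orbitRel X Y)) := by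
    obtain ⟨y⟩ := ‹Nonempty Y›
    exact ⟨Quotient.mk _ y⟩
  exact Nat.card_pos

/-- orbits correspond under an equivariant bijection along a surjective homomorphism -/
theorem orb_congr {X Y X' Y' : Type*} [Group X] [MulAction X Y] [Group X'] [MulAction X' Y']
    (f : X →* X') (hf : Function.Surjective f) (e : Y ≃ Y') (he : ∀ g y, e (g • y) = f g • e y) :
    orb X Y = orb X' Y' := by
  unfold orb
  apply Nat.card_congr
  refine Quotient.congr e ?_
  intro a b
  change a ∈ MulAction.orbit X b ↔ e a ∈ MulAction.orbit X' (e b)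
  constructor
  · rintro ⟨g, rfl⟩
    exact ⟨f g, (he g b).symm⟩
  · rintro ⟨g', hg'⟩
    obtain ⟨g, rfl⟩ := hf g'
    refine ⟨g, e.injective ?_⟩
    rw [← hg']
    exact he g b

end Cfsg.Agent.Lib.Helper47.CL
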