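import Mathlib
import Cfsg.Agent.Lib.Helper47.CL.Defs
import Cfsg.Agent.Lib.Helper47.CL.MUC
import Cfsg.Agent.Lib.Helper47.CL.ORB

set_option autoImplicit false

namespace Cfsg.Agent.Lib.Helper47.CL

open MulAction Subgroup

-- RUNG TR
theorem Good.bd {n : ℕ} (h : Good n) {X Y : Type*} [Group X] [Finite Y] [MulAction X Y]
    [FaithfulSMul X Y] (hc : Nat.card Y = n) : Bd X Y := by
  have e : Y ≃ Fin n := by
    subst hc
    exact Finite.equivFin Y
  let φ : X →* Equiv.Perm (Fin n) := (e.permCongrHom).toMonoidHom.comp (MulAction.toPermHom X Y)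
  have hφ : Function.Injective φ := by
    intro a b hab
    have h1 : MulAction.toPermHom X Y a = MulAction.toPermHom X Y b :=
      (e.permCongrHom).injective hab
    exact MulAction.toPerm_injective h1
  have h1 := h φ.range
  unfold Bd at h1 ⊢
  have h2 : mu X = mu φ.range := mu_congr (MonoidHom.ofInjective hφ)
  have h3 : orb X Y = orb φ.range (Fin n) := by
    refine orb_congr φ.rangeRestrict φ.rangeRestrict_surjective e ?_
    intro g y
    change e (g • y) = φ g (e y)
    simp [φ]
  rw [h2, h3, hc]
  simpa using h1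

end Cfsg.Agent.Lib.Helper47.CL
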