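import Mathlib
import Cfsg.Agent.Lib.Helper47.CL.Defs
import Cfsg.Agent.Lib.Helper47.CL.TR
import Cfsg.Agent.Lib.Helper47.CL.ORB

set_option autoImplicit false

namespace Cfsg.Agent.Lib.Helper47.CL

open MulAction Subgroup

-- RUNG SUB
theorem sub_bd {X Y : Type*} [Group X] [Finite Y] [MulAction X Y] (Γ : Set Y)
    (hinv : ∀ x : X, ∀ y ∈ Γ, x • y ∈ Γ) (hne : Γ.Nonempty)
    (hf : ∀ x : X, (∀ y ∈ Γ, x • y = y) → x = 1) (hg : Good Γ.ncard) :
    3 * mu X + 4 ≤ 4 * Γ.ncard := by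
  let P : SubMulAction X Y := { carrier := Γ, smul_mem' := fun x y hy => hinv x y hy }
  have hfa : FaithfulSMul X P := by
    constructor
    intro a b hab
    have h1 : a⁻¹ * b = 1 := by
      apply hf
      intro y hy
      have h2 := congrArg Subtype.val (hab ⟨y, hy⟩)
      change a • y = b • y at h2
      rw [mul_smul, ← h2, inv_smul_smul]
    exact (inv_mul_eq_one.1 h1)
  have hc : Nat.card P = Γ.ncard := rfl
  have h1 : Bd X P := hg.bd hc
  have : Nonempty P := by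
    obtain ⟨y, hy⟩ := hne
    exact ⟨⟨y, hy⟩⟩
  have h2 : 1 ≤ orb X P := one_le_orb
  unfold Bd at h1
  rw [hc] at h1
  omega

end Cfsg.Agent.Lib.Helper47.CL
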