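import Mathlib
import Cfsg.Agent.Lib.Helper47.CL.Defs
import Cfsg.Agent.Lib.Helper47.CL.SUB
import Cfsg.Agent.Lib.Helper47.CL.MUS
import Cfsg.Agent.Lib.Helper47.CL.ORB

set_option autoImplicit false

namespace Cfsg.Agent.Lib.Helper47.CL

open MulAction Subgroup Cfsg.Agent.Lib.Helper40 Cfsg.Agent.Lib.Helper62
open Cfsg.Agent.S3680 (MN)

variable {G Ω : Type*} [Group G] [Finite G] [Finite Ω] [MulAction G Ω] [FaithfulSMul G Ω]

/-- `mu G + mu (N ⊓ H) = mu N + mu H` -/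
theorem PS_mu_prim (hprim : IsPreprimitive G Ω) (α : Ω) {N : Subgroup G} (hN : MN N) :
    mu G + mu ↥(N ⊓ stabilizer G α) = mu N + mu ↥(stabilizer G α) := by
  have hNn := hN.1
  have h1 := mu_sup_add_inf N (stabilizer G α) (by
    rw [normalizer_eq_top]; exact le_top)
  have htop : N ⊔ stabilizer G α = ⊤ := by
    rw [eq_top_iff]
    intro g _
    obtain ⟨n, hn, hnα⟩ := Cfsg.Agent.S3680.trans_of_normal hprim N hN.1 hN.2.1 α (g • α)
    have h2 : n⁻¹ * g ∈ stabilizer G α := by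
      rw [mem_stabilizer_iff, mul_smul, ← hnα, inv_smul_smul]
    have e : g = n * (n⁻¹ * g) := by group
    rw [e]
    exact Subgroup.mul_mem_sup hn h2
  rw [htop, mu_top] at h1
  exact h1

-- RUNG PS
theorem prim_of_sub (hprim : IsPreprimitive G Ω) (hg : ∀ m < Nat.card Ω, Good m) (α : Ω)
    {N : Subgroup G} (hN : MN N) (Γ : Set Ω)
    (hinv : ∀ h ∈ stabilizer G α, ∀ y ∈ Γ, h • y ∈ Γ) (hα : α ∉ Γ) (hne : Γ.Nonempty)
    (hf : ∀ h ∈ stabilizer G α, (∀ y ∈ Γ, h • y = y) → h = 1)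
    (hnum : 3 * mu N + 4 * Γ.ncard ≤ 3 * mu ↥(N ⊓ stabilizer G α) + 4 * Nat.card Ω) :
    Bd G Ω := by
  have h1 := PS_mu_prim hprim α hN
  have hlt : Γ.ncard < Nat.card Ω := by
    rw [← Set.ncard_univ]
    apply Set.ncard_lt_ncard _ (Set.toFinite _)
    exact ⟨Set.subset_univ _, fun h => hα (h (Set.mem_univ α))⟩
  have h2 : 3 * mu ↥(stabilizer G α) + 4 ≤ 4 * Γ.ncard := by
    apply sub_bd (X := ↥(stabilizer G α)) Γ
    · intro x y hy
      exact hinv x.1 x.2 y hy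
    · exact hne
    · intro x hx
      exact Subtype.ext (hf x.1 x.2 hx)
    · exact hg _ hlt
  have : IsPretransitive G Ω := hprim.toIsPretransitive
  have : Nonempty Ω := ⟨α⟩
  have h3 : orb G Ω = 1 := orb_eq_one
  unfold Bd
  rw [h3]
  omega

end Cfsg.Agent.Lib.Helper47.CL
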