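import Mathlib
import Cfsg.Agent.Lib.Helper47.CL.Defs
import Cfsg.Agent.Lib.Helper47.CL.MUB
import Cfsg.Agent.Lib.Helper47.CL.REG
import Cfsg.Agent.Lib.Helper47.CL.AFFR
import Cfsg.Agent.Lib.Helper47.CL.PS

set_option autoImplicit false

namespace Cfsg.Agent.Lib.Helper47.CL

open MulAction Subgroup Cfsg.Agent.Lib.Helper40 Cfsg.Agent.Lib.Helper62
open Cfsg.Agent.S3680 (MN)

variable {G Ω : Type*} [Group G] [Finite G] [Finite Ω] [MulAction G Ω] [FaithfulSMul G Ω]

theorem aff1_num (k : ℕ) : 3 * k ≤ 2 * 2 ^ k + 2 := by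
  induction k with
  | zero => simp
  | succ k ih =>
    have : 1 ≤ 2 ^ k := Nat.one_le_two_pow
    rcases Nat.eq_zero_or_pos k with rfl | hk
    · simp
    · have h2 : 2 ≤ 2 ^ k := by
        calc 2 = 2 ^ 1 := by norm_num
          _ ≤ 2 ^ k := Nat.pow_le_pow_right (by norm_num) hk
      rw [pow_succ]
      omega

/-- the stabilizer is faithful on each of its orbits `≠ {α}` -/
theorem aff1_faithful (hprim : IsPreprimitive G Ω) (α : Ω) {N : Subgroup G} (hN : MN N)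
    (hab : ∀ a ∈ N, ∀ b ∈ N, a * b = b * a) (δ : Ω) (hδ : δ ≠ α) (h : G)
    (hh : h ∈ stabilizer G α) (hfix : ∀ g ∈ stabilizer G α, h • g • δ = g • δ) : h = 1 := by
  have hreg := aff_reg hprim α hN hab
  have htr := Cfsg.Agent.S3680.trans_of_normal hprim N hN.1 hN.2.1
  obtain ⟨x₀, hx₀, hx₀δ⟩ := htr α δ
  have hx1 : x₀ ≠ 1 := by
    rintro rfl
    rw [one_smul] at hx₀δ
    exact hδ hx₀δ.symm
  have hnc : normalClosure {x₀} = N := by
    have hle : normalClosure {x₀} ≤ N := by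
      have := hN.1
      apply normalClosure_le_normal
      simpa using hx₀
    rcases hN.2.2 _ normalClosure_normal hle with hb | hb
    · exfalso
      have : x₀ ∈ normalClosure {x₀} := subset_normalClosure (Set.mem_singleton x₀)
      rw [hb, Subgroup.mem_bot] at this
      exact hx1 this
    · exact hb
  have hcen : N ≤ centralizer {h} := by
    rw [← hnc, normalClosure, closure_le]
    intro c hc
    rw [Group.mem_conjugatesOfSet_iff] at hc
    obtain ⟨a, ha, hac⟩ := hc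
    rw [Set.mem_singleton_iff] at ha
    subst ha
    rw [isConj_iff] at hac
    obtain ⟨g, rfl⟩ := hac
    -- g = n * g' with n ∈ N, g' ∈ H
    obtain ⟨n, hn, hng⟩ := htr α (g • α)
    have hg' : n⁻¹ * g ∈ stabilizer G α := by
      rw [mem_stabilizer_iff, mul_smul, ← hng, inv_smul_smul]
    set g' := n⁻¹ * g with hg'def
    have hgg : g = n * g' := by rw [hg'def]; group
    have hcN : g' * a * g'⁻¹ ∈ N := hN.1.conj_mem a hx₀ g'
    have hconj : g * a * g⁻¹ = g' * a * g'⁻¹ := by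
      have e := hab n hn _ hcN
      calc g * a * g⁻¹ = (n * (g' * a * g'⁻¹)) * n⁻¹ := by rw [hgg]; group
        _ = ((g' * a * g'⁻¹) * n) * n⁻¹ := by rw [e]
        _ = g' * a * g'⁻¹ := by group
    rw [hconj, SetLike.mem_coe, Subgroup.mem_centralizer_singleton_iff]
    symm
    have hg'α : g'⁻¹ • α = α := by
      rw [mem_stabilizer_iff] at hg'
      rw [inv_smul_eq_iff, hg']
    apply commute_of_fix α N hreg hh (hN.1.conj_mem _ hcN h) hcN
    have e2 : (g' * a * g'⁻¹) • α = g' • δ := by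
      rw [mul_smul, mul_smul, hg'α, hx₀δ]
    rw [e2]
    exact hfix g' hg'
  apply Cfsg.Agent.S3680.eq_one_of_commute N htr h _ α hh
  intro v hv
  exact Subgroup.mem_centralizer_singleton_iff.mp (hcen hv)

theorem aff1_core (hprim : IsPreprimitive G Ω) (hg : ∀ m < Nat.card Ω, Good m) (α : Ω)
    {N : Subgroup G} (hN : MN N) (hab : ∀ a ∈ N, ∀ b ∈ N, a * b = b * a) (δ : Ω) (hδ : δ ≠ α)
    (hsmall : 2 * {y : Ω | ∃ h ∈ stabilizer G α, h • δ = y}.ncard + 1 ≤ Nat.card Ω) :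
    Bd G Ω := by
  obtain ⟨p, k, hp, hcN, hcΩ⟩ := aff_card hprim α hN hab
  apply prim_of_sub hprim hg α hN {y : Ω | ∃ h ∈ stabilizer G α, h • δ = y}
  · rintro h hh y ⟨g, hg, rfl⟩
    exact ⟨h * g, mul_mem hh hg, mul_smul h g δ⟩
  · rintro ⟨g, hg, hgδ⟩
    apply hδ
    rw [mem_stabilizer_iff] at hg
    have : g • δ = g • α := by rw [hgδ, hg]
    exact smul_left_cancel _ this
  · exact ⟨δ, 1, one_mem _, one_smul _ _⟩
  · intro h hh hfix
    apply aff1_faithful hprim α hN hab δ hδ h hh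
    intro g hg
    exact hfix _ ⟨g, hg, rfl⟩
  · have h1 : mu N ≤ k := mu_le_of_card_eq_prime_pow hp hcN
    have h2 := aff1_num k
    have h3 : 2 ^ k ≤ Nat.card Ω := by
      rw [hcΩ]
      exact Nat.pow_le_pow_left hp.two_le k
    omega

-- RUNG AFF1
theorem aff_two_orbits (hprim : IsPreprimitive G Ω) (hg : ∀ m < Nat.card Ω, Good m) (α : Ω)
    {N : Subgroup G} (hN : MN N) (hab : ∀ a ∈ N, ∀ b ∈ N, a * b = b * a)
    (h2 : ∃ β γ : Ω, β ≠ α ∧ γ ≠ α ∧ ∀ h ∈ stabilizer G α, h • β ≠ γ) : Bd G Ω := by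
  obtain ⟨β, γ, hβ, hγ, hne⟩ := h2
  have hdisj : Disjoint {y : Ω | ∃ h ∈ stabilizer G α, h • β = y}
      {y : Ω | ∃ h ∈ stabilizer G α, h • γ = y} := by
    rw [Set.disjoint_left]
    rintro y ⟨h1, hh1, rfl⟩ ⟨h2, hh2, h21⟩
    apply hne (h2⁻¹ * h1) (mul_mem (inv_mem hh2) hh1)
    rw [mul_smul, ← h21, inv_smul_smul]
  have hsub : {y : Ω | ∃ h ∈ stabilizer G α, h • β = y} ∪
      {y : Ω | ∃ h ∈ stabilizer G α, h • γ = y} ⊆ ({α}ᶜ : Set Ω) := by
    have aux : ∀ δ : Ω, δ ≠ α → ∀ g ∈ stabilizer G α, g • δ ≠ α := by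
      intro δ hδ g hg hgδ
      apply hδ
      rw [mem_stabilizer_iff] at hg
      have : g • δ = g • α := by rw [hgδ, hg]
      exact smul_left_cancel _ this
    rintro y (⟨g, hg, rfl⟩ | ⟨g, hg, rfl⟩)
    · exact aux β hβ g hg
    · exact aux γ hγ g hg
  have hcard := Set.ncard_le_ncard hsub
  rw [Set.ncard_union_eq hdisj, Set.ncard_compl, Set.ncard_singleton] at hcard
  have hpos : 0 < Nat.card Ω := by
    have : Nonempty Ω := ⟨α⟩
    exact Nat.card_pos
  by_cases hle : {y : Ω | ∃ h ∈ stabilizer G α, h • β = y}.ncard ≤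
      {y : Ω | ∃ h ∈ stabilizer G α, h • γ = y}.ncard
  · exact aff1_core hprim hg α hN hab β hβ (by omega)
  · exact aff1_core hprim hg α hN hab γ hγ (by omega)

end Cfsg.Agent.Lib.Helper47.CL
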