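import Mathlib
import Cfsg.Agent.Lib.Helper47.CL.Defs
import Cfsg.Agent.Lib.Helper47.CL.REG
import Cfsg.Agent.Lib.Helper47.CL.AFFR

set_option autoImplicit false

namespace Cfsg.Agent.Lib.Helper47.CL

open MulAction Subgroup Cfsg.Agent.Lib.Helper40 Cfsg.Agent.Lib.Helper62
open Cfsg.Agent.S3680 (MN)

variable {G Ω : Type*} [Group G] [Finite G] [Finite Ω] [MulAction G Ω] [FaithfulSMul G Ω]

omit [Finite Ω] [MulAction G Ω] [FaithfulSMul G Ω] in
theorem affo_gen (N : Subgroup G) {p k : ℕ} (hp : p.Prime) (hc : Nat.card N = p ^ k) :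
    ∀ j ≤ k, ∃ S : Finset G, S.card ≤ j ∧ (∀ s ∈ S, s ∈ N ∧ s ≠ 1) ∧
      p ^ j ≤ Nat.card (closure (S : Set G)) := by
  intro j
  induction j with
  | zero =>
    intro _
    refine ⟨∅, by simp, by simp, ?_⟩
    simp
  | succ j ih =>
    intro hj
    obtain ⟨S, hS1, hS2, hS3⟩ := ih (by omega)
    have hKN : closure (S : Set G) ≤ N := by
      rw [closure_le]
      intro s hs
      exact (hS2 s hs).1
    by_cases hK : closure (S : Set G) = N
    · refine ⟨S, by omega, hS2, ?_⟩
      rw [hK, hc]
      exact Nat.pow_le_pow_right hp.pos hj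
    · have hlt : closure (S : Set G) < N := lt_of_le_of_ne hKN hK
      obtain ⟨x, hxN, hxK⟩ := SetLike.exists_of_lt hlt
      have hx1 : x ≠ 1 := by
        rintro rfl
        exact hxK (one_mem _)
      classical
      refine ⟨insert x S, (Finset.card_insert_le x S).trans (by omega), ?_, ?_⟩
      · intro s hs
        rcases Finset.mem_insert.mp hs with rfl | hs
        · exact ⟨hxN, hx1⟩
        · exact hS2 s hs
      · have hK'N : closure ((insert x S : Finset G) : Set G) ≤ N := by
          rw [closure_le]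
          intro s hs
          rcases Finset.mem_insert.mp (Finset.mem_coe.mp hs) with rfl | hs
          · exact hxN
          · exact (hS2 s hs).1
        have hKK' : closure (S : Set G) ≤ closure ((insert x S : Finset G) : Set G) := by
          apply Subgroup.closure_mono
          intro s hs
          exact Finset.mem_coe.mpr (Finset.mem_insert_of_mem (Finset.mem_coe.mp hs))
        have hxK' : x ∈ closure ((insert x S : Finset G) : Set G) :=
          subset_closure (Finset.mem_coe.mpr (Finset.mem_insert_self x S))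
        obtain ⟨a, _, ha⟩ := (Nat.dvd_prime_pow hp).mp (hc ▸ Subgroup.card_dvd_of_le hKN)
        obtain ⟨b, _, hb⟩ := (Nat.dvd_prime_pow hp).mp (hc ▸ Subgroup.card_dvd_of_le hK'N)
        have hab : a < b := by
          by_contra hcon
          have hle : Nat.card (closure ((insert x S : Finset G) : Set G)) ≤
              Nat.card (closure (S : Set G)) := by
            rw [ha, hb]
            exact Nat.pow_le_pow_right hp.pos (by omega)
          have := Subgroup.eq_of_le_of_card_ge hKK' hle
          exact hxK (this ▸ hxK')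
        rw [hb]
        rw [ha] at hS3
        calc p ^ (j + 1) = p ^ j * p := pow_succ p j
          _ ≤ p ^ a * p := Nat.mul_le_mul_right p hS3
          _ = p ^ (a + 1) := (pow_succ p a).symm
          _ ≤ p ^ b := Nat.pow_le_pow_right hp.pos hab

-- RUNG AFFO
theorem aff_order (hprim : IsPreprimitive G Ω) (α : Ω) {N : Subgroup G} (hN : MN N)
    (hab : ∀ a ∈ N, ∀ b ∈ N, a * b = b * a) {p k : ℕ} (hp : p.Prime) (hc : Nat.card N = p ^ k) :
    Nat.card ↥(stabilizer G α) ≤ (Nat.card Ω - 1) ^ k := by
  obtain ⟨S, hS1, hS2, hS3⟩ := affo_gen N hp hc k le_rfl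
  have hKN : closure (S : Set G) ≤ N := by
    rw [closure_le]
    intro s hs
    exact (hS2 s hs).1
  have hK : closure (S : Set G) = N := Subgroup.eq_of_le_of_card_ge hKN (by rw [hc]; exact hS3)
  have hreg := aff_reg hprim α hN hab
  have htr := Cfsg.Agent.S3680.trans_of_normal hprim N hN.1 hN.2.1
  have hnN : Nat.card N = Nat.card Ω := card_eq_of_regular α N hreg (fun y => htr α y)
  have hn2 : 1 ≤ Nat.card Ω - 1 := by
    have : Nat.card N ≠ 1 := fun h => hN.2.1 (Subgroup.card_eq_one.mp h)
    have : 0 < Nat.card N := Nat.card_pos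
    omega
  have hne : ∀ h : stabilizer G α, ∀ s : S, (h : G) • (s : G) • α ∈ ({α}ᶜ : Set Ω) := by
    intro h s hcon
    have hcon' : (h : G) • (s : G) • α = α := hcon
    have h1 : (s : G) • α = α := by
      have hh : (h : G) • α = α := h.2
      have : (h : G) • (s : G) • α = (h : G) • α := by rw [hcon', hh]
      exact smul_left_cancel _ this
    have h2 : (s : G) ∈ N ⊓ stabilizer G α := Subgroup.mem_inf.mpr ⟨(hS2 s s.2).1, h1⟩
    rw [hreg, Subgroup.mem_bot] at h2
    exact (hS2 s s.2).2 h2
  let f : stabilizer G α → (S → ({α}ᶜ : Set Ω)) := fun h s => ⟨(h : G) • (s : G) • α, hne h s⟩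
  have hf : Function.Injective f := by
    intro h1 h2 h12
    have hfix : ∀ s ∈ S, ((h2 : G)⁻¹ * h1) • s • α = s • α := by
      intro s hs
      have := congrArg Subtype.val (congrFun h12 ⟨s, hs⟩)
      have this' : (h1 : G) • s • α = (h2 : G) • s • α := this
      rw [mul_smul, this', inv_smul_smul]
    have hmem : (h2 : G)⁻¹ * h1 ∈ stabilizer G α := mul_mem (inv_mem h2.2) h1.2
    have hcomm : ∀ s ∈ S, ((h2 : G)⁻¹ * h1) * s = s * ((h2 : G)⁻¹ * h1) := by
      intro s hs
      exact commute_of_fix α N hreg hmem (hN.1.conj_mem s (hS2 s hs).1 _) (hS2 s hs).1 (hfix s hs)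
    have hcen : N ≤ centralizer {(h2 : G)⁻¹ * h1} := by
      rw [← hK, closure_le]
      intro s hs
      rw [SetLike.mem_coe, Subgroup.mem_centralizer_singleton_iff]
      exact (hcomm s (Finset.mem_coe.mp hs)).symm
    have h1' : (h2 : G)⁻¹ * h1 = 1 := by
      apply Cfsg.Agent.S3680.eq_one_of_commute N htr _ _ α hmem
      intro v hv
      exact Subgroup.mem_centralizer_singleton_iff.mp (hcen hv)
    rw [inv_mul_eq_one] at h1'
    exact Subtype.ext h1'.symm
  have hcard := Nat.card_le_card_of_injective f hf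
  rw [Nat.card_fun, Nat.card_coe_set_eq, Set.ncard_compl, Set.ncard_singleton] at hcard
  refine hcard.trans ?_
  apply Nat.pow_le_pow_right hn2
  simpa using hS1

end Cfsg.Agent.Lib.Helper47.CL
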