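import Mathlib
import Cfsg.Agent.Lib.Helper47.CL.Defs

set_option autoImplicit false

namespace Cfsg.Agent.Lib.Helper47.CL

theorem num_auxA (q : ℕ) (hq : 2 ≤ q) : ∀ k : ℕ, 2 ≤ k →
    3 * (k + q * (k * k)) + 4 ≤ 4 * (q + 1) ^ k := by
  intro k hk
  induction k, hk using Nat.le_induction with
  | base => nlinarith
  | succ k hk ih =>
    have h1 : 2 * k + 1 ≤ 2 * (k * k) := by nlinarith
    have h2 : q * (2 * k + 1) ≤ q * (2 * (k * k)) := Nat.mul_le_mul_left q h1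
    have h3 : 3 * (q + 1) ^ k ≤ (q + 1) ^ k * (q + 1) := by
      rw [mul_comm]
      exact Nat.mul_le_mul_left _ (by omega)
    rw [pow_succ]
    nlinarith

-- NUMA
theorem numA {p k m : ℕ} (hp : 3 ≤ p) (hk : 2 ≤ k) (h : 2 ^ m ≤ (p ^ k - 1) ^ k) :
    3 * (k + m) + 4 ≤ 4 * p ^ k := by
  obtain ⟨q, rfl⟩ : ∃ q, p = q + 1 := ⟨p - 1, by omega⟩
  have hq : 2 ≤ q := by omega
  have h1 : q + 1 ≤ 2 ^ q := Nat.lt_two_pow_self
  have hm : m < q * (k * k) := by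
    by_contra hcon
    have hcon' : q * (k * k) ≤ m := not_lt.mp hcon
    have e1 : 2 ^ (q * (k * k)) ≤ 2 ^ m := Nat.pow_le_pow_right (by norm_num) hcon'
    have hpos : 0 < (q + 1) ^ k := by positivity
    have e2 : ((q + 1) ^ k - 1) ^ k < ((q + 1) ^ k) ^ k :=
      Nat.pow_lt_pow_left (by omega) (by omega)
    have e3 : ((q + 1) ^ k) ^ k ≤ 2 ^ (q * (k * k)) := by
      rw [← pow_mul, pow_mul 2 q (k * k)]
      exact Nat.pow_le_pow_left h1 _
    omega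
  have h2 := num_auxA q hq k hk
  omega

theorem num_auxB : ∀ k : ℕ, 4 ≤ k → 3 * (k * k) + 3 * k + 1 ≤ 4 * 2 ^ k := by
  intro k hk
  induction k, hk using Nat.le_induction with
  | base => norm_num
  | succ k hk ih =>
    rw [pow_succ]
    nlinarith

-- NUMB
theorem numB {k m : ℕ} (hk : 4 ≤ k) (h : 2 ^ m ≤ (2 ^ k - 1) ^ k) :
    3 * (k + m) + 4 ≤ 4 * 2 ^ k := by
  have hm : m < k * k := by
    by_contra hcon
    have hcon' : k * k ≤ m := not_lt.mp hcon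
    have e1 : 2 ^ (k * k) ≤ 2 ^ m := Nat.pow_le_pow_right (by norm_num) hcon'
    have hpos : 0 < 2 ^ k := by positivity
    have e2 : (2 ^ k - 1) ^ k < (2 ^ k) ^ k := Nat.pow_lt_pow_left (by omega) (by omega)
    rw [← pow_mul] at e2
    omega
  have h2 := num_auxB k hk
  omega

theorem num_auxC (t : ℕ) (ht : 4 ≤ t) : ∀ j : ℕ, 1 ≤ j → 2 * (j + 1) ≤ t ^ j := by
  intro j hj
  induction j, hj using Nat.le_induction with
  | base => rw [pow_one]; omega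
  | succ j hj ih =>
    rw [pow_succ]
    nlinarith

-- NUMC
theorem numC {t L k g : ℕ} (ht : 4 ≤ t) (hL : 2 ≤ L) (hk : k ≤ 2 * L) (hgk : g ≤ k * (t - 1)) :
    3 * L + 4 * g ≤ 4 * t ^ L := by
  obtain ⟨j, rfl⟩ : ∃ j, L = j + 1 := ⟨L - 1, by omega⟩
  obtain ⟨s, rfl⟩ : ∃ s, t = s + 1 := ⟨t - 1, by omega⟩
  have h1 := num_auxC (s + 1) ht j (by omega)
  have h2 : g ≤ 2 * (j + 1) * s := by
    refine hgk.trans ?_
    rw [Nat.add_sub_cancel]
    exact Nat.mul_le_mul_right s hk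
  have h3 : 2 * (j + 1) * (s + 1) ≤ (s + 1) ^ j * (s + 1) := Nat.mul_le_mul_right _ h1
  rw [pow_succ]
  nlinarith

theorem numD (k : ℕ) : 3 * k ≤ 2 * 2 ^ k + 2 := by
  induction k with
  | zero => norm_num
  | succ n ih =>
    rcases Nat.eq_zero_or_pos n with rfl | hn
    · norm_num
    · have h2 : 2 ≤ 2 ^ n := by
        calc 2 = 2 ^ 1 := rfl
          _ ≤ 2 ^ n := Nat.pow_le_pow_right (by norm_num) hn
      rw [pow_succ]; omega

end Cfsg.Agent.Lib.Helper47.CL
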