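import Mathlib
import Cfsg.Agent.Lib.Helper47.CL.Defs
import Cfsg.Agent.Lib.Helper47.CL.PS

set_option autoImplicit false

namespace Cfsg.Agent.Lib.Helper47.CL

open MulAction Subgroup Cfsg.Agent.Lib.Helper40 Cfsg.Agent.Lib.Helper62
open Cfsg.Agent.S3680 (MN)

variable {G Ω : Type*} [Group G] [Finite G] [Finite Ω] [MulAction G Ω] [FaithfulSMul G Ω]

omit [Finite G] [FaithfulSMul G Ω] in
theorem PG_ncard (α : Ω) : ({α}ᶜ : Set Ω).ncard = Nat.card Ω - 1 := by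
  rw [Set.ncard_compl, Set.ncard_singleton]

omit [Finite G] [Finite Ω] [FaithfulSMul G Ω] in
theorem PG_inv (α : Ω) : ∀ h ∈ stabilizer G α, ∀ y ∈ ({α}ᶜ : Set Ω), h • y ∈ ({α}ᶜ : Set Ω) := by
  intro h hh y hy hc
  apply hy
  have h1 : h • y = α := hc
  have h2 : h • α = α := hh
  rw [← h2] at h1
  exact smul_left_cancel h h1

omit [Finite G] [Finite Ω] in
theorem PG_faithful (α : Ω) :
    ∀ h ∈ stabilizer G α, (∀ y ∈ ({α}ᶜ : Set Ω), h • y = y) → h = 1 := by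
  intro h hh hfix
  apply FaithfulSMul.eq_of_smul_eq_smul (α := Ω)
  intro y
  rw [one_smul]
  by_cases hy : y = α
  · rw [hy]; exact hh
  · exact hfix y hy

omit [Finite G] [FaithfulSMul G Ω] in
theorem PG_nonempty (h2 : 2 ≤ Nat.card Ω) (α : Ω) : ({α}ᶜ : Set Ω).Nonempty := by
  rw [← Set.ncard_pos, PG_ncard]
  omega

-- RUNG PG
theorem prim_of_le (hprim : IsPreprimitive G Ω) (hg : ∀ m < Nat.card Ω, Good m) (h2 : 2 ≤ Nat.card Ω)
    (α : Ω) {N : Subgroup G} (hN : MN N) (hle : mu N ≤ mu ↥(N ⊓ stabilizer G α) + 1) :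
    Bd G Ω := by
  refine prim_of_sub hprim hg α hN {α}ᶜ (PG_inv α) (by simp) (PG_nonempty h2 α) (PG_faithful α) ?_
  rw [PG_ncard]
  omega

theorem stab_bd (hg : ∀ m < Nat.card Ω, Good m) (h2 : 2 ≤ Nat.card Ω) (α : Ω) :
    3 * mu ↥(stabilizer G α) + 4 ≤ 4 * (Nat.card Ω - 1) := by
  rw [← PG_ncard α]
  apply sub_bd (X := ↥(stabilizer G α)) {α}ᶜ
  · intro x y hy
    exact PG_inv α x.1 x.2 y hy
  · exact PG_nonempty h2 α
  · intro x hx
    exact Subtype.ext (PG_faithful α x.1 x.2 hx)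
  · apply hg
    rw [PG_ncard]
    omega

theorem mu_prim (hprim : IsPreprimitive G Ω) (α : Ω) {N : Subgroup G} (hN : MN N) :
    mu G + mu ↥(N ⊓ stabilizer G α) = mu N + mu ↥(stabilizer G α) := PS_mu_prim hprim α hN

end Cfsg.Agent.Lib.Helper47.CL
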