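import Mathlib
import Cfsg.Agent.Lib.Helper47.CL.Defs
import Cfsg.Agent.Lib.Helper47.CL.AFFR
import Cfsg.Agent.Lib.Helper47.CL.AFFO
import Cfsg.Agent.Lib.Helper47.CL.NUM
import Cfsg.Agent.Lib.Helper47.CL.PG
import Cfsg.Agent.Lib.Helper47.CL.MUB
import Cfsg.Agent.Lib.Helper47.CL.MUS
import Cfsg.Agent.Lib.Helper47.CL.ORB

set_option autoImplicit false

namespace Cfsg.Agent.Lib.Helper47.CL

open MulAction Subgroup Cfsg.Agent.Lib.Helper40 Cfsg.Agent.Lib.Helper62
open Cfsg.Agent.S3680 (MN)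

variable {G Ω : Type*} [Group G] [Finite G] [Finite Ω] [MulAction G Ω] [FaithfulSMul G Ω]

omit [FaithfulSMul G Ω] in
/-- `|Ω| - 1` divides the order of the stabilizer if it is transitive on the other points. -/
theorem afft_dvd (α : Ω) (h2 : 2 ≤ Nat.card Ω)
    (h1 : ∀ β γ : Ω, β ≠ α → γ ≠ α → ∃ h ∈ stabilizer G α, h • β = γ) :
    (Nat.card Ω - 1) ∣ Nat.card ↥(stabilizer G α) := by
  have hnt : Nontrivial Ω := by
    have := Finite.one_lt_card_iff_nontrivial (α := Ω)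
    exact this.mp (by omega)
  obtain ⟨β, hβ⟩ := exists_ne α
  have horb : orbit ↥(stabilizer G α) β = ({α} : Set Ω)ᶜ := by
    ext γ
    simp only [Set.mem_compl_iff, Set.mem_singleton_iff]
    constructor
    · rintro ⟨x, rfl⟩ hx
      apply hβ
      have hxα : (x : G) • α = α := x.2
      have hx' : (x : G) • β = α := hx
      exact smul_left_cancel (x : G) (hx'.trans hxα.symm)
    · intro hγ
      obtain ⟨x, hx, hxβ⟩ := h1 β γ hβ hγ
      exact ⟨⟨x, hx⟩, hxβ⟩
  have hidx := MulAction.index_stabilizer ↥(stabilizer G α) β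
  rw [horb, Set.ncard_compl, Set.ncard_singleton] at hidx
  rw [← hidx]
  exact Subgroup.index_dvd_card _

theorem aff_trans (hprim : IsPreprimitive G Ω) (hg : ∀ m < Nat.card Ω, Good m) (α : Ω)
    {N : Subgroup G} (hN : MN N) (hab : ∀ a ∈ N, ∀ b ∈ N, a * b = b * a)
    (h1 : ∀ β γ : Ω, β ≠ α → γ ≠ α → ∃ h ∈ stabilizer G α, h • β = γ) : Bd G Ω := by
  obtain ⟨p, k, hp, hcN, hcΩ⟩ := aff_card hprim α hN hab
  have hreg := aff_reg hprim α hN hab
  have hmu := mu_prim hprim α hN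
  rw [hreg, mu_bot, add_zero] at hmu
  have hmuN : mu N ≤ k := mu_le_of_card_eq_prime_pow hp hcN
  have hH1 : 2 ^ mu ↥(stabilizer G α) ≤ Nat.card ↥(stabilizer G α) := two_pow_mu_le
  have hH2 := aff_order hprim α hN hab hp hcN
  have hcN1 : Nat.card N ≠ 1 := fun h => hN.2.1 (Subgroup.card_eq_one.mp h)
  have h2 : 2 ≤ Nat.card Ω := by
    have : 0 < Nat.card N := Nat.card_pos
    rw [hcΩ, ← hcN]; omega
  have hne : Nonempty Ω := ⟨α⟩
  have hpt : IsPretransitive G Ω := hprim.toIsPretransitive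
  have horb : orb G Ω = 1 := orb_eq_one
  by_cases hk1 : k ≤ 1
  · apply prim_of_le hprim hg h2 α hN
    omega
  have hk2 : 2 ≤ k := by omega
  unfold Bd
  rw [horb, hmu]
  have hle : 2 ^ mu ↥(stabilizer G α) ≤ (p ^ k - 1) ^ k := by
    rw [← hcΩ]; exact hH1.trans hH2
  by_cases hp3 : 3 ≤ p
  · have := numA hp3 hk2 hle
    rw [hcΩ]; omega
  have hp2 : p = 2 := by
    have := hp.two_le; omega
  subst hp2
  by_cases hk4 : 4 ≤ k
  · have := numB hk4 hle
    rw [hcΩ]; omega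
  have hk23 : k = 2 ∨ k = 3 := by omega
  rcases hk23 with rfl | rfl
  · have h3 := stab_bd (G := G) hg h2 α
    rw [hcΩ] at h3 ⊢
    norm_num at h3 ⊢
    omega
  · have h7 : (7 : ℕ) ∣ Nat.card ↥(stabilizer G α) := by
      have := afft_dvd α h2 h1
      rw [hcΩ] at this
      norm_num at this
      exact this
    have h3 := prime_mul_two_pow_le (G := ↥(stabilizer G α)) (q := 7) (by norm_num) h7
    have hH3 : Nat.card ↥(stabilizer G α) ≤ 343 := by
      rw [hcΩ] at hH2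
      exact le_of_le_of_eq hH2 (by norm_num)
    rw [hcΩ]
    have e8 : (2 : ℕ) ^ 3 = 8 := by norm_num
    rw [e8]
    have h4 : 2 ^ (mu ↥(stabilizer G α) - 1) ≤ 49 := by omega
    have h5 : mu ↥(stabilizer G α) - 1 < 6 := by
      by_contra hcon
      have : 2 ^ 6 ≤ 2 ^ (mu ↥(stabilizer G α) - 1) :=
        Nat.pow_le_pow_right (by norm_num) (not_lt.mp hcon)
      omega
    omega

end Cfsg.Agent.Lib.Helper47.CL
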