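import Mathlib
import Cfsg.Agent.Lib.Helper47.CL.Defs
import Cfsg.Agent.Lib.Helper47.CL.TR
import Cfsg.Agent.Lib.Helper47.CL.MUS
import Cfsg.Agent.Lib.Helper47.CL.MUC

set_option autoImplicit false

namespace Cfsg.Agent.Lib.Helper47.CL

open MulAction Subgroup Cfsg.Agent.Lib.Helper40 Cfsg.Agent.Lib.Helper62
open Cfsg.Agent.S3680 (MN)

theorem KER_orb {X Z : Type*} [Group X] [MulAction X Z] :
    orb (MulAction.toPermHom X Z).range Z = orb X Z := by
  unfold orb
  have : MulAction.orbitRel (MulAction.toPermHom X Z).range Z = MulAction.orbitRel X Z := by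
    ext a b
    simp only [MulAction.orbitRel_apply, MulAction.mem_orbit_iff]
    constructor
    · rintro ⟨⟨_, x, rfl⟩, h⟩; exact ⟨x, h⟩
    · rintro ⟨x, h⟩; exact ⟨⟨_, x, rfl⟩, h⟩
  rw [this]

-- RUNG KER (file KER.lean; imports TR MUS).  X ⧸ ker ≃* range ≤ Perm Z acts faithfully on Z with the same orbits.
theorem ker_bd {X Z : Type*} [Group X] [Finite X] [Finite Z] [MulAction X Z]
    (h : Good (Nat.card Z)) :
    3 * mu X + 4 * orb X Z ≤ 3 * mu ↥(MulAction.toPermHom X Z).ker + 4 * Nat.card Z := by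
  have h1 : Bd (MulAction.toPermHom X Z).range Z := h.bd rfl
  unfold Bd at h1
  rw [KER_orb] at h1
  have h2 := mu_add (MulAction.toPermHom X Z).ker
  have h3 := mu_congr (QuotientGroup.quotientKerEquivRange (MulAction.toPermHom X Z))
  omega

end Cfsg.Agent.Lib.Helper47.CL
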