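import Mathlib
import Cfsg.Agent.Lib.Helper47.CL.Defs
import Cfsg.Agent.Lib.Helper47.CL.KER
import Cfsg.Agent.Lib.Helper47.CL.TR
import Cfsg.Agent.Lib.Helper47.CL.ORB

set_option autoImplicit false

namespace Cfsg.Agent.Lib.Helper47.CL

open MulAction Subgroup Cfsg.Agent.Lib.Helper40 Cfsg.Agent.Lib.Helper62
open Cfsg.Agent.S3680 (MN)

/-- the complement of an orbit as a sub-action -/
def INTR_W (X : Type*) {Y : Type*} [Group X] [MulAction X Y] (y : Y) : SubMulAction X Y where
  carrier := (orbit X y)ᶜ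
  smul_mem' := by
    intro x v hv hc
    apply hv
    have : v = x⁻¹ • (x • v) := by rw [inv_smul_smul]
    rw [this]
    exact MulAction.mem_orbit_of_mem_orbit x⁻¹ hc

theorem INTR_orb {X Y : Type*} [Group X] [Finite Y] [MulAction X Y] (y : Y) (K : Subgroup X) :
    orb X Y ≤ orb K (INTR_W X y) + 1 := by
  classical
  unfold orb
  rw [← Finite.card_option]
  let f : Option (Quotient (orbitRel K (INTR_W X y))) → Quotient (orbitRel X Y) := fun o =>
    o.elim (Quotient.mk _ y) (Quotient.map' (s₁ := orbitRel K (INTR_W X y)) (s₂ := orbitRel X Y)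
      (fun w => (w : Y)) (by
        intro a b hab
        obtain ⟨k, hk⟩ := hab
        refine ⟨(k : X), ?_⟩
        have := congrArg Subtype.val hk
        exact this))
  refine Nat.card_le_card_of_surjective f ?_
  intro c
  induction c using Quotient.inductionOn' with
  | h v =>
    by_cases hv : v ∈ orbit X y
    · refine ⟨none, ?_⟩
      show Quotient.mk _ y = _
      exact (Quotient.sound' (s₁ := orbitRel X Y) hv).symm
    · exact ⟨some (Quotient.mk'' ⟨v, hv⟩), rfl⟩

theorem INTR_fix {X Y : Type*} [Group X] [MulAction X Y] (y : Y)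
    {k : X} (hk : k ∈ (MulAction.toPermHom X (orbit X y)).ker) {u : Y} (hu : u ∈ orbit X y) :
    k • u = u := by
  rw [MonoidHom.mem_ker] at hk
  have h1 := congrArg (fun σ : Equiv.Perm (orbit X y) => ((σ ⟨u, hu⟩ : orbit X y) : Y)) hk
  simpa using h1

-- RUNG INTR (file INTR.lean; imports KER TR ORB MUS).  Y nonempty (else pretransitive). O = orbit X y ≠ univ.
-- ker_bd on Z = orbit X y (orb = 1): 3 mu X + 4 ≤ 3 mu K + 4 |O|.  K acts faithfully on W = Oᶜ (invariant), Good |W|:
-- 3 mu K + 4 orb K W ≤ 4 |W|, and orb K W + 1 ≥ orb X Y (every X-orbit ≠ O contains a K-orbit of W).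
theorem intrans_bd {X Y : Type*} [Group X] [Finite X] [Finite Y] [MulAction X Y] [FaithfulSMul X Y]
    (hg : ∀ m < Nat.card Y, Good m) (hnt : ¬ IsPretransitive X Y) : Bd X Y := by
  classical
  have hne : Nonempty Y := by
    by_contra h
    rw [not_nonempty_iff] at h
    exact hnt ⟨fun a => (h.false a).elim⟩
  obtain ⟨y⟩ := hne
  have hO : ∃ v, v ∉ orbit X y := by
    by_contra h
    push Not at h
    apply hnt
    refine ⟨fun a b => ?_⟩
    obtain ⟨g, hg⟩ := h a
    obtain ⟨g', hg'⟩ := h b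
    refine ⟨g' * g⁻¹, ?_⟩
    have hg1 : g • y = a := hg
    have hg2 : g' • y = b := hg'
    rw [mul_smul, ← hg1, inv_smul_smul, hg2]
  obtain ⟨v, hv⟩ := hO
  have hcard : Nat.card (orbit X y) + Nat.card (INTR_W X y) = Nat.card Y := by
    have h1 : Nat.card (orbit X y) = (orbit X y).ncard := Nat.card_coe_set_eq _
    have h2 : Nat.card (INTR_W X y) = ((orbit X y)ᶜ).ncard := Nat.card_coe_set_eq ((orbit X y)ᶜ)
    rw [h1, h2, Set.ncard_add_ncard_compl]
  have hOpos : 0 < Nat.card (orbit X y) := by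
    have : Nonempty (orbit X y) := ⟨⟨y, mem_orbit_self y⟩⟩
    exact Nat.card_pos
  have hWpos : 0 < Nat.card (INTR_W X y) := by
    have : Nonempty (INTR_W X y) := ⟨⟨v, hv⟩⟩
    exact Nat.card_pos
  have h1 := ker_bd (X := X) (Z := orbit X y) (hg _ (by omega))
  have : Nonempty (orbit X y) := ⟨⟨y, mem_orbit_self y⟩⟩
  rw [orb_eq_one] at h1
  have hfaith : FaithfulSMul (MulAction.toPermHom X (orbit X y)).ker (INTR_W X y) := ⟨by
    intro k1 k2 h
    apply Subtype.ext
    apply FaithfulSMul.eq_of_smul_eq_smul (α := Y)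
    intro u
    by_cases hu : u ∈ orbit X y
    · rw [INTR_fix y k1.2 hu, INTR_fix y k2.2 hu]
    · exact congrArg Subtype.val (h ⟨u, hu⟩)⟩
  have h2 : Bd (MulAction.toPermHom X (orbit X y)).ker (INTR_W X y) := (hg _ (by omega)).bd rfl
  have h3 := INTR_orb y (MulAction.toPermHom X (orbit X y)).ker
  unfold Bd at *
  omega

end Cfsg.Agent.Lib.Helper47.CL
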