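import Mathlib
import Cfsg.Agent.Lib.Helper47.CL.Defs
import Cfsg.Agent.Lib.Helper47.CL.INTR
import Cfsg.Agent.Lib.Helper47.CL.KER
import Cfsg.Agent.Lib.Helper47.CL.ORB

set_option autoImplicit false

namespace Cfsg.Agent.Lib.Helper47.CL

open MulAction Subgroup Cfsg.Agent.Lib.Helper40 Cfsg.Agent.Lib.Helper62
open Cfsg.Agent.S3680 (MN)
open scoped Pointwise

-- RUNG IMPR (file IMPR.lean; imports INTR KER ORB).  B a nontrivial block, Z = orbit X B (in Set Y, pointwise action),
-- 2 ≤ |Z| < |Y|; K = kernel on Z; ker_bd: 3 mu X + 4 ≤ 3 mu K + 4 |Z|; K is faithful and intransitive on Y: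
-- intrans_bd for K: 3 mu K + 4 orb K Y ≤ 4 |Y|; orb K Y ≥ |Z| (each K-orbit lies in one block; blocks cover Y).
theorem imprim_bd {X Y : Type*} [Group X] [Finite X] [Finite Y] [MulAction X Y] [FaithfulSMul X Y]
    (hg : ∀ m < Nat.card Y, Good m) (ht : IsPretransitive X Y) (hnp : ¬ IsPreprimitive X Y) :
    Bd X Y := by
  classical
  obtain ⟨B, hB, hBt⟩ : ∃ B : Set Y, IsBlock X B ∧ ¬ IsTrivialBlock B := by
    by_contra h
    push Not at h
    exact hnp { toIsPretransitive := ht, isTrivialBlock_of_isBlock := fun {B} hB => h B hB }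
  unfold IsTrivialBlock at hBt
  push Not at hBt
  obtain ⟨hBs, hBu⟩ := hBt
  obtain ⟨b1, hb1, b2, hb2, hb12⟩ := hBs
  obtain ⟨y0, hy0⟩ : ∃ y0, y0 ∉ B := by
    by_contra h
    push Not at h
    exact hBu (Set.eq_univ_of_forall h)
  have hZne : ∀ C : orbit X B, (C : Set Y).Nonempty := by
    rintro ⟨_, g, rfl⟩
    exact ⟨g • b1, Set.smul_mem_smul_set hb1⟩
  choose p hp using hZne
  have hZeq : ∀ C D : orbit X B, ∀ u, u ∈ (C : Set Y) → u ∈ (D : Set Y) → C = D := by
    rintro ⟨_, g, rfl⟩ ⟨_, g', rfl⟩ u hu hu'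
    apply Subtype.ext
    by_contra hne
    exact Set.disjoint_left.1 (hB hne) hu hu'
  have hpinj : Function.Injective p := by
    intro C D h
    exact hZeq C D (p C) (hp C) (h ▸ hp D)
  have hlt : Nat.card (orbit X B) < Nat.card Y := by
    have := Fintype.ofFinite (orbit X B)
    have := Fintype.ofFinite Y
    rw [Nat.card_eq_fintype_card, Nat.card_eq_fintype_card]
    refine Fintype.card_lt_of_injective_not_surjective p hpinj ?_
    intro hs
    have key : ∀ b ∈ B, b = p ⟨B, mem_orbit_self B⟩ := by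
      intro b hb
      obtain ⟨D, hD⟩ := hs b
      have : D = ⟨B, mem_orbit_self B⟩ := hZeq D _ b (hD ▸ hp D) hb
      rw [← hD, this]
    exact hb12 ((key b1 hb1).trans (key b2 hb2).symm)
  have hfixK : ∀ k ∈ (MulAction.toPermHom X (orbit X B)).ker, ∀ C : orbit X B,
      k • (C : Set Y) = C := fun k hk C => INTR_fix B hk C.2
  have hle : Nat.card (orbit X B) ≤ orb (MulAction.toPermHom X (orbit X B)).ker Y := by
    unfold orb
    refine Nat.card_le_card_of_injective
      (fun C => (Quotient.mk'' (p C) : Quotient (orbitRel (MulAction.toPermHom X (orbit X B)).ker Y))) ?_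
    intro C D h
    have h1 : p C ∈ orbit (MulAction.toPermHom X (orbit X B)).ker (p D) := Quotient.exact' h
    obtain ⟨k, hk⟩ := h1
    have hk' : (k : X) • p D = p C := hk
    have h2 : p C ∈ (D : Set Y) := by
      rw [← hfixK k k.2 D, ← hk']
      exact Set.smul_mem_smul_set (hp D)
    exact hZeq C D (p C) (hp C) h2
  have hKnt : ¬ IsPretransitive (MulAction.toPermHom X (orbit X B)).ker Y := by
    intro h
    obtain ⟨k, hk⟩ := h.exists_smul_eq b1 y0
    have hk' : (k : X) • b1 = y0 := hk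
    apply hy0
    have h3 := hfixK k k.2 ⟨B, mem_orbit_self B⟩
    have h4 : (k : X) • B = B := h3
    rw [← h4, ← hk']
    exact Set.smul_mem_smul_set hb1
  have h1 := ker_bd (X := X) (Z := orbit X B) (hg _ hlt)
  have : Nonempty (orbit X B) := ⟨⟨B, mem_orbit_self B⟩⟩
  rw [orb_eq_one] at h1
  have h2 : Bd (MulAction.toPermHom X (orbit X B)).ker Y := intrans_bd hg hKnt
  have : Nonempty Y := ⟨b1⟩
  unfold Bd at *
  rw [orb_eq_one]
  omega

end Cfsg.Agent.Lib.Helper47.CL
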