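import Mathlib
import Cfsg.Agent.Lib.Helper47.CL.Defs

set_option autoImplicit false

namespace Cfsg.Agent.Lib.Helper47.CL

open MulAction Subgroup Cfsg.Agent.Lib.Helper40 Cfsg.Agent.Lib.Helper62
open Cfsg.Agent.S3680 (MN)

variable {G Ω : Type*} [Group G] [Finite G] [Finite Ω] [MulAction G Ω] [FaithfulSMul G Ω]

variable {N T : Subgroup G}

-- RUNG NA0 (file NA0.lean).  from Helper62.MNin.{cj, eq_or, gen, simple, noncomm}, Helper40.card_cj
omit [Finite Ω] [MulAction G Ω] [FaithfulSMul G Ω] in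
theorem fac_MNin (hN : MN N) (hT : MNin N T) {A : Subgroup G} (hA : A ∈ fac T) : MNin N A := by
  obtain ⟨g, rfl⟩ := hA
  exact hT.cj hN.1 g

omit [Finite G] [Finite Ω] [MulAction G Ω] [FaithfulSMul G Ω] in
theorem fac_card {A : Subgroup G} (hA : A ∈ fac T) : Nat.card A = Nat.card T := by
  obtain ⟨g, rfl⟩ := hA
  exact card_cj g T

omit [Finite Ω] [MulAction G Ω] [FaithfulSMul G Ω] in
theorem fac_comm (hN : MN N) (hT : MNin N T) {A B : Subgroup G} (hA : A ∈ fac T) (hB : B ∈ fac T)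
    (hne : A ≠ B) : ∀ a ∈ A, ∀ b ∈ B, a * b = b * a := by
  rcases (fac_MNin hN hT hA).eq_or (fac_MNin hN hT hB) with h | h
  · exact absurd h hne
  · exact h.2

omit [Finite Ω] [MulAction G Ω] [FaithfulSMul G Ω] in
theorem fac_center (hN : MN N) (hT : MNin N T) (hnc : ¬ ∀ a ∈ N, ∀ b ∈ N, a * b = b * a)
    {A : Subgroup G} (hA : A ∈ fac T) {z : G} (hz : z ∈ A) (hc : ∀ a ∈ A, z * a = a * z) : z = 1 := by
  have hAM := fac_MNin hN hT hA
  have hs : IsSimpleGroup A := hAM.simple hN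
  obtain ⟨a, ha, b, hb, hab⟩ := hAM.noncomm hN hnc
  rcases hs.eq_bot_or_eq_top_of_normal (Subgroup.center A) inferInstance with h | h
  · have hzc : (⟨z, hz⟩ : A) ∈ Subgroup.center A := by
      rw [Subgroup.mem_center_iff]
      intro g
      exact Subtype.ext (hc g g.2).symm
    rw [h, Subgroup.mem_bot] at hzc
    exact congrArg Subtype.val hzc
  · exfalso
    apply hab
    have hac : (⟨a, ha⟩ : A) ∈ Subgroup.center A := by rw [h]; trivial
    have := Subgroup.mem_center_iff.mp hac ⟨b, hb⟩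
    exact (congrArg Subtype.val this).symm

omit [Finite Ω] [MulAction G Ω] [FaithfulSMul G Ω] in
theorem sSup_fac (hN : MN N) (hT : MNin N T) : sSup (fac T) = N := by
  apply le_antisymm
  · exact sSup_le (fun A hA => (fac_MNin hN hT hA).1)
  · exact hT.gen hN _ (fun g => le_sSup ⟨g, rfl⟩)

omit [Finite Ω] [MulAction G Ω] [FaithfulSMul G Ω] in
theorem four_le_card (hN : MN N) (hT : MNin N T) (hnc : ¬ ∀ a ∈ N, ∀ b ∈ N, a * b = b * a) :
    4 ≤ Nat.card T := by
  obtain ⟨a, ha, b, hb, hab⟩ := hT.noncomm hN hnc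
  by_contra hlt
  have hpos : 0 < Nat.card T := Nat.card_pos
  have hcomm : ∀ x y : T, x * y = y * x := by
    have hcases : Nat.card T = 1 ∨ Nat.card T = 2 ∨ Nat.card T = 3 := by omega
    rcases hcases with h | h | h
    · have := (Nat.card_eq_one_iff_unique.mp h).1
      intro x y
      exact Subsingleton.elim _ _
    · have := Fact.mk Nat.prime_two
      have hc : IsCyclic T := isCyclic_of_prime_card h
      intro x y
      exact hc.isMulCommutative.is_comm.comm x y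
    · have := Fact.mk Nat.prime_three
      have hc : IsCyclic T := isCyclic_of_prime_card h
      intro x y
      exact hc.isMulCommutative.is_comm.comm x y
  exact hab (congrArg Subtype.val (hcomm ⟨a, ha⟩ ⟨b, hb⟩))

theorem na0_cj_inf (hprim : IsPreprimitive G Ω) (α : Ω) (hN : MN N) (hT : MNin N T)
    {A : Subgroup G} (hA : A ∈ fac T) :
    ∃ h : G, (N ⊓ stabilizer G α) ⊓ A = cj h ((N ⊓ stabilizer G α) ⊓ T) := by
  obtain ⟨g, rfl⟩ := hA
  obtain ⟨h, hh, he⟩ := conj_reduce hprim α hN hT g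
  refine ⟨h, ?_⟩
  show (N ⊓ stabilizer G α) ⊓ cj g T = _
  rw [he, cj_inf, cj_inf, cj_normal hN.1, cj_eq_of_mem hh]

-- every conjugate of T is an H-conjugate (Helper62.conj_reduce); H normalizes D = N ⊓ H
theorem inf_fac_eq_bot (hprim : IsPreprimitive G Ω) (α : Ω) (hN : MN N) (hT : MNin N T)
    (h : (N ⊓ stabilizer G α) ⊓ T = ⊥) {A : Subgroup G} (hA : A ∈ fac T) :
    (N ⊓ stabilizer G α) ⊓ A = ⊥ := by
  obtain ⟨x, hx⟩ := na0_cj_inf hprim α hN hT hA
  rw [hx, h]
  exact Subgroup.map_bot _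

theorem inf_fac_ne_bot (hprim : IsPreprimitive G Ω) (α : Ω) (hN : MN N) (hT : MNin N T)
    (h : (N ⊓ stabilizer G α) ⊓ T ≠ ⊥) {A : Subgroup G} (hA : A ∈ fac T) :
    (N ⊓ stabilizer G α) ⊓ A ≠ ⊥ := by
  obtain ⟨x, hx⟩ := na0_cj_inf hprim α hN hT hA
  intro hb
  apply h
  rw [hb] at hx
  have := congrArg (cj x⁻¹) hx
  rw [cj_inv_cj] at this
  rw [← this]
  exact Subgroup.map_bot _

end Cfsg.Agent.Lib.Helper47.CL
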