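import Mathlib
import Cfsg.Agent.Lib.Helper47.CL.Defs
import Cfsg.Agent.Lib.Helper47.CL.NA0
import Cfsg.Agent.Lib.Helper47.CL.MUS
import Cfsg.Agent.Lib.Helper47.CL.MUB
import Cfsg.Agent.Lib.Helper12.Card

set_option autoImplicit false

namespace Cfsg.Agent.Lib.Helper47.CL

open MulAction Subgroup Cfsg.Agent.Lib.Helper40 Cfsg.Agent.Lib.Helper62
open Cfsg.Agent.S3680 (MN)

variable {G Ω : Type*} [Group G] [Finite G] [Finite Ω] [MulAction G Ω] [FaithfulSMul G Ω]

variable {N T : Subgroup G}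

-- RUNG NA1 (file NA1.lean; imports NA0 MUS MUB).  products of factors
omit [Finite Ω] [MulAction G Ω] [FaithfulSMul G Ω] in
theorem sSup_le_N (hN : MN N) (hT : MNin N T) {J : Set (Subgroup G)} (hJ : J ⊆ fac T) : sSup J ≤ N :=
  sSup_le (fun _ hA => (fac_MNin hN hT (hJ hA)).1)

omit [Finite Ω] [MulAction G Ω] [FaithfulSMul G Ω] in
theorem sSup_norm (hN : MN N) (hT : MNin N T) {J : Set (Subgroup G)} (hJ : J ⊆ fac T) :
    N ≤ normalizer ((sSup J : Subgroup G) : Set G) := by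
  have key : ∀ n ∈ N, sSup J ≤ cj n (sSup J) := by
    intro n hn
    apply sSup_le
    intro A hA
    have h1 : cj n A = A := cj_eq_of_mem_normalizer ((fac_MNin hN hT (hJ hA)).2.2.1 hn)
    rw [← h1]
    exact cj_mono (le_sSup hA)
  intro n hn
  apply mem_normalizer_of_cj_eq
  apply cj_eq_of_le_of_finite
  have h2 := cj_mono (g := n) (key n⁻¹ (N.inv_mem hn))
  rwa [cj_cj_inv] at h2

omit [Finite Ω] [MulAction G Ω] [FaithfulSMul G Ω] in
theorem sSup_comm (hN : MN N) (hT : MNin N T) {J : Set (Subgroup G)} (hJ : J ⊆ fac T)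
    {A : Subgroup G} (hA : A ∈ fac T) (hAJ : A ∉ J) : ∀ a ∈ A, ∀ b ∈ sSup J, a * b = b * a := by
  have h1 : sSup J ≤ centralizer (A : Set G) := by
    apply sSup_le
    intro B hB b hb
    rw [mem_centralizer_iff]
    intro a ha
    exact fac_comm hN hT hA (hJ hB) (fun h => hAJ (h ▸ hB)) a ha b hb
  intro a ha b hb
  exact mem_centralizer_iff.mp (h1 hb) a ha

omit [Finite Ω] [MulAction G Ω] [FaithfulSMul G Ω] in
theorem sSup_comm' (hN : MN N) (hT : MNin N T) {J J' : Set (Subgroup G)} (hJ : J ⊆ fac T)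
    (hJ' : J' ⊆ fac T) (hd : Disjoint J J') : ∀ a ∈ sSup J, ∀ b ∈ sSup J', a * b = b * a := by
  have h1 : sSup J ≤ centralizer ((sSup J' : Subgroup G) : Set G) := by
    apply sSup_le
    intro A hA a ha
    rw [mem_centralizer_iff]
    intro b hb
    exact (sSup_comm hN hT hJ' (hJ hA) (fun h => Set.disjoint_left.mp hd hA h) a ha b hb).symm
  intro a ha b hb
  exact (mem_centralizer_iff.mp (h1 ha) b hb).symm

omit [Finite Ω] [MulAction G Ω] [FaithfulSMul G Ω] in
theorem inf_sSup (hN : MN N) (hT : MNin N T) (hnc : ¬ ∀ a ∈ N, ∀ b ∈ N, a * b = b * a)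
    {J : Set (Subgroup G)} (hJ : J ⊆ fac T) {A : Subgroup G} (hA : A ∈ fac T) (hAJ : A ∉ J) :
    A ⊓ sSup J = ⊥ := by
  rw [eq_bot_iff]
  rintro z ⟨hzA, hzS⟩
  rw [mem_bot]
  exact fac_center hN hT hnc hA hzA (fun a ha => (sSup_comm hN hT hJ hA hAJ a ha z hzS).symm)

omit [Finite Ω] [MulAction G Ω] [FaithfulSMul G Ω] in
theorem mem_sSup_insert (hN : MN N) (hT : MNin N T) {J : Set (Subgroup G)} (hJ : J ⊆ fac T)
    {A : Subgroup G} (hA : A ∈ fac T) {x : G} (hx : x ∈ sSup (insert A J)) :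
    ∃ a ∈ A, ∃ b ∈ sSup J, x = a * b := by
  rw [sSup_insert] at hx
  have h1 : A ≤ normalizer ((sSup J : Subgroup G) : Set G) :=
    (fac_MNin hN hT hA).1.trans (sSup_norm hN hT hJ)
  have h2 : x ∈ ((A ⊔ sSup J : Subgroup G) : Set G) := hx
  rw [coe_mul_of_left_le_normalizer_right _ _ h1] at h2
  obtain ⟨a, ha, b, hb, rfl⟩ := h2
  exact ⟨a, ha, b, hb, rfl⟩

omit [Finite Ω] [MulAction G Ω] [FaithfulSMul G Ω] in
theorem card_sSup (hN : MN N) (hT : MNin N T) (hnc : ¬ ∀ a ∈ N, ∀ b ∈ N, a * b = b * a)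
    {J : Set (Subgroup G)} (hJ : J ⊆ fac T) : Nat.card ↥(sSup J) = Nat.card T ^ J.ncard := by
  have hfin : J.Finite := Set.toFinite J
  induction J, hfin using Set.Finite.induction_on with
  | empty => simp
  | @insert A J hAJ hJf ih =>
    have hA : A ∈ fac T := hJ (Set.mem_insert A J)
    have hJ' : J ⊆ fac T := (Set.subset_insert A J).trans hJ
    have h1 : A ≤ normalizer ((sSup J : Subgroup G) : Set G) :=
      (fac_MNin hN hT hA).1.trans (sSup_norm hN hT hJ')
    have h2 := Cfsg.Agent.Lib.Helper12.card_sup_mul_card_inf' A (sSup J) h1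
    rw [inf_sSup hN hT hnc hJ' hA hAJ, Subgroup.card_bot, mul_one, ih hJ', fac_card hA] at h2
    rw [sSup_insert, h2, Set.ncard_insert_of_notMem hAJ hJf, pow_succ, mul_comm]

omit [Finite Ω] [MulAction G Ω] [FaithfulSMul G Ω] in
theorem mu_sSup (hN : MN N) (hT : MNin N T) (hnc : ¬ ∀ a ∈ N, ∀ b ∈ N, a * b = b * a)
    {J : Set (Subgroup G)} (hJ : J ⊆ fac T) : mu ↥(sSup J) = J.ncard := by
  have hfin : J.Finite := Set.toFinite J
  induction J, hfin using Set.Finite.induction_on with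
  | empty =>
    rw [sSup_empty, mu_bot, Set.ncard_empty]
  | @insert A J hAJ hJf ih =>
    have hA : A ∈ fac T := hJ (Set.mem_insert A J)
    have hJ' : J ⊆ fac T := (Set.subset_insert A J).trans hJ
    have h1 : sSup J ≤ normalizer (A : Set G) :=
      (sSup_le_N hN hT hJ').trans (fac_MNin hN hT hA).2.2.1
    have h2 := mu_sup_add_inf A (sSup J) h1
    have hs : IsSimpleGroup A := (fac_MNin hN hT hA).simple hN
    have hmA : mu ↥A = 1 := mu_simple
    rw [inf_sSup hN hT hnc hJ' hA hAJ, mu_bot, add_zero, ih hJ', hmA] at h2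
    rw [sSup_insert, h2, Set.ncard_insert_of_notMem hAJ hJf, add_comm]

end Cfsg.Agent.Lib.Helper47.CL
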