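import Mathlib
import Cfsg.Agent.Lib.Helper47.CL.Defs
import Cfsg.Agent.Lib.Helper47.CL.NA0
import Cfsg.Agent.Lib.Helper47.CL.NA1

set_option autoImplicit false

namespace Cfsg.Agent.Lib.Helper47.CL

open MulAction Subgroup Cfsg.Agent.Lib.Helper40 Cfsg.Agent.Lib.Helper62
open Cfsg.Agent.S3680 (MN)

variable {G Ω : Type*} [Group G] [Finite G] [Finite Ω] [MulAction G Ω] [FaithfulSMul G Ω]

variable {N T : Subgroup G}

/-- `C_A = N ⊓ C(A)` -/
def na3C (N A : Subgroup G) : Subgroup G := N ⊓ centralizer (A : Set G)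

/-- `R_A = A ⊓ (D ⊔ C_A)` -/
def na3R (N D A : Subgroup G) : Subgroup G := A ⊓ (D ⊔ na3C N A)

omit [Finite G] [Finite Ω] [MulAction G Ω] [FaithfulSMul G Ω] in
theorem na3_cj_C (hN : N.Normal) (g : G) (A : Subgroup G) : cj g (na3C N A) = na3C N (cj g A) := by
  unfold na3C
  rw [cj_inf, cj_normal hN, cj_centralizer]

omit [Finite G] [Finite Ω] [MulAction G Ω] [FaithfulSMul G Ω] in
theorem na3_cj_R (hN : N.Normal) (g : G) (D A : Subgroup G) (hD : cj g D = D) :
    cj g (na3R N D A) = na3R N D (cj g A) := by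
  unfold na3R
  have h1 : cj g (D ⊔ na3C N A) = cj g D ⊔ cj g (na3C N A) := Subgroup.map_sup _ _ _
  rw [cj_inf, h1, hD, na3_cj_C hN]

omit [Finite G] [Finite Ω] [MulAction G Ω] [FaithfulSMul G Ω] in
theorem na3_fac_cj {A : Subgroup G} (hA : A ∈ fac T) (g : G) : cj g A ∈ fac T := by
  obtain ⟨x, rfl⟩ := hA
  exact ⟨g * x, cj_mul g x T⟩

omit [Finite Ω] [MulAction G Ω] [FaithfulSMul G Ω] in
/-- `N = A * C_A`. -/
theorem na3_decomp (hN : MN N) (hT : MNin N T) {A : Subgroup G} (hA : A ∈ fac T) {x : G}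
    (hx : x ∈ N) : ∃ a ∈ A, ∃ c ∈ na3C N A, x = a * c := by
  have hJ : fac T \ {A} ⊆ fac T := Set.diff_subset
  have h1 : insert A (fac T \ {A}) = fac T := by
    rw [Set.insert_diff_singleton, Set.insert_eq_of_mem hA]
  have h2 : x ∈ sSup (insert A (fac T \ {A})) := by rw [h1, sSup_fac hN hT]; exact hx
  obtain ⟨a, ha, c, hc, rfl⟩ := mem_sSup_insert hN hT hJ hA h2
  refine ⟨a, ha, c, ⟨sSup_le_N hN hT hJ hc, ?_⟩, rfl⟩
  show c ∈ centralizer (A : Set G)
  rw [mem_centralizer_iff]
  intro b hb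
  exact sSup_comm hN hT hJ hA (fun h => h.2 rfl) b hb c hc

theorem dich (hprim : IsPreprimitive G Ω) (α : Ω) (hN : MN N) (hT : MNin N T)
    (hnc : ¬ ∀ a ∈ N, ∀ b ∈ N, a * b = b * a) (h : (N ⊓ stabilizer G α) ⊓ T = ⊥) :
    N ⊓ stabilizer G α = ⊥ ∨
      ∀ A ∈ fac T, ∀ t ∈ A, ∃ d ∈ N ⊓ stabilizer G α, ∃ c ∈ N, (∀ a ∈ A, c * a = a * c) ∧ t = d * c := by
  have hNn : N.Normal := hN.1
  set H := stabilizer G α with hH
  set D := N ⊓ H with hD
  set R : Subgroup G := ⨆ A ∈ fac T, na3R N D A with hR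
  have hnt : Nontrivial Ω := by
    by_contra hcon
    rw [not_nontrivial_iff_subsingleton] at hcon
    apply hN.2.1
    rw [eq_bot_iff_forall]
    intro n _
    apply FaithfulSMul.eq_of_smul_eq_smul (α := Ω)
    intro x
    exact Subsingleton.elim _ _
  have hco : IsCoatom H := IsPreprimitive.isCoatom_stabilizer_of_isPreprimitive G α
  have hRA : ∀ A ∈ fac T, na3R N D A ≤ R := fun A hA => le_iSup₂ (f := fun A _ => na3R N D A) A hA
  have hRN : R ≤ N := iSup₂_le (fun A hA => inf_le_left.trans (fac_MNin hN hT hA).1)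
  have hcjD : ∀ x ∈ H, cj x D = D := by
    intro x hx
    rw [hD, cj_inf, cj_normal hNn, cj_eq_of_mem hx]
  have hHR : H ≤ normalizer (R : Set G) := by
    have key : ∀ x ∈ H, R ≤ cj x R := by
      intro x hx
      apply iSup₂_le
      intro A hA
      have h1 : na3R N D A = cj x (na3R N D (cj x⁻¹ A)) := by
        rw [na3_cj_R hNn x D _ (hcjD x hx), cj_cj_inv]
      rw [h1]
      exact cj_mono (hRA _ (na3_fac_cj hA x⁻¹))
    intro x hx
    apply mem_normalizer_of_cj_eq
    apply cj_eq_of_le_of_finite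
    have h2 := cj_mono (g := x) (key x⁻¹ (H.inv_mem hx))
    rwa [cj_cj_inv] at h2
  rcases hco.le_iff.1 (le_sup_right : H ≤ R ⊔ H) with htop | heq
  · -- R ⊔ H = ⊤
    right
    intro A hA t ht
    have hRle : R ≤ D ⊔ na3C N A := by
      apply iSup₂_le
      intro B hB
      by_cases hBA : B = A
      · rw [hBA]; exact inf_le_right
      · refine le_trans ?_ le_sup_right
        intro b hb
        have hbB : b ∈ B := hb.1
        refine ⟨(fac_MNin hN hT hB).1 hbB, ?_⟩
        show b ∈ centralizer (A : Set G)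
        rw [mem_centralizer_iff]
        intro a ha
        exact fac_comm hN hT hA hB (fun e => hBA e.symm) a ha b hbB
    have htN : t ∈ N := (fac_MNin hN hT hA).1 ht
    have h1 : t ∈ ((R ⊔ H : Subgroup G) : Set G) := by rw [htop]; trivial
    rw [coe_mul_of_right_le_normalizer_left R H hHR] at h1
    obtain ⟨r, hr, x, hx, hrx⟩ := h1
    have hxD : x ∈ D := by
      refine ⟨?_, hx⟩
      have : x = r⁻¹ * t := by rw [← hrx]; group
      rw [this]
      exact N.mul_mem (N.inv_mem (hRN hr)) htN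
    have h2 : t ∈ D ⊔ na3C N A := by
      rw [← hrx]
      exact (D ⊔ na3C N A).mul_mem (hRle hr) (le_sup_left (a := D) hxD)
    have hDn : D ≤ normalizer ((na3C N A : Subgroup G) : Set G) := by
      intro n hn
      apply mem_normalizer_of_cj_eq
      rw [na3_cj_C hNn, cj_eq_of_mem_normalizer ((fac_MNin hN hT hA).2.2.1 hn.1)]
    have h3 : t ∈ ((D ⊔ na3C N A : Subgroup G) : Set G) := h2
    rw [coe_mul_of_left_le_normalizer_right D _ hDn] at h3
    obtain ⟨d, hd, c, hc, hdc⟩ := h3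
    refine ⟨d, hd, c, hc.1, ?_, hdc.symm⟩
    intro a ha
    exact (mem_centralizer_iff.mp hc.2 a ha).symm
  · -- R ≤ H
    left
    have hRH : R ≤ H := by rw [← heq]; exact le_sup_left
    have hRbot : ∀ A ∈ fac T, na3R N D A = ⊥ := by
      intro A hA
      rw [eq_bot_iff, ← inf_fac_eq_bot hprim α hN hT h hA]
      intro x hx
      exact ⟨⟨hRN (hRA A hA hx), hRH (hRA A hA hx)⟩, hx.1⟩
    rw [eq_bot_iff]
    intro d hd
    rw [mem_bot]
    have hcent : ∀ A ∈ fac T, A ≤ centralizer ({d} : Set G) := by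
      intro A hA
      obtain ⟨a, ha, c, hc, hdac⟩ := na3_decomp hN hT hA hd.1
      have ha1 : a ∈ na3R N D A := by
        refine ⟨ha, ?_⟩
        have : a = d * c⁻¹ := by rw [hdac]; group
        rw [this]
        exact (D ⊔ na3C N A).mul_mem (le_sup_left (a := D) hd)
          ((D ⊔ na3C N A).inv_mem (le_sup_right (a := D) hc))
      rw [hRbot A hA, mem_bot] at ha1
      rw [ha1, one_mul] at hdac
      intro b hb
      rw [mem_centralizer_singleton_iff, hdac]
      exact mem_centralizer_iff.mp hc.2 b hb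
    have hNc : N ≤ centralizer ({d} : Set G) := by
      rw [← sSup_fac hN hT]
      exact sSup_le hcent
    have hZn : (N ⊓ centralizer (N : Set G)).Normal := inferInstance
    have hdZ : d ∈ N ⊓ centralizer (N : Set G) := by
      refine ⟨hd.1, ?_⟩
      show d ∈ centralizer (N : Set G)
      rw [mem_centralizer_iff]
      intro n hn
      exact mem_centralizer_singleton_iff.mp (hNc hn)
    rcases hN.2.2 _ hZn inf_le_left with hz | hz
    · rw [hz, mem_bot] at hdZ
      exact hdZ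
    · exfalso
      apply hnc
      intro a ha b hb
      have hb' : b ∈ N ⊓ centralizer (N : Set G) := by rw [hz]; exact hb
      exact mem_centralizer_iff.mp hb'.2 a ha

end Cfsg.Agent.Lib.Helper47.CL
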