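import Mathlib
import Cfsg.Agent.Lib.Helper47.CL.Defs
import Cfsg.Agent.Lib.Helper47.CL.NA0
import Cfsg.Agent.Lib.Helper47.CL.NA1
import Cfsg.Agent.Lib.Helper47.CL.NA3

set_option autoImplicit false

namespace Cfsg.Agent.Lib.Helper47.CL

open MulAction Subgroup Cfsg.Agent.Lib.Helper40 Cfsg.Agent.Lib.Helper62
open Cfsg.Agent.S3680 (MN)

variable {G Ω : Type*} [Group G] [Finite G] [Finite Ω] [MulAction G Ω] [FaithfulSMul G Ω]

variable {N T : Subgroup G}

-- RUNG NA4: a maximal set J of factors with D ⊓ sSup J = ⊥ gives a regular normal subgroup of N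
theorem exists_regular (hprim : IsPreprimitive G Ω) (α : Ω) (hN : MN N) (hT : MNin N T)
    (hnc : ¬ ∀ a ∈ N, ∀ b ∈ N, a * b = b * a) (h : (N ⊓ stabilizer G α) ⊓ T = ⊥) :
    ∃ J ⊆ fac T, (N ⊓ stabilizer G α) ⊓ sSup J = ⊥ ∧
      ∀ x ∈ N, ∃ d ∈ N ⊓ stabilizer G α, ∃ m ∈ sSup J, x = d * m := by
  obtain ⟨J, -, hJ⟩ := exists_maximal_ge_of_wellFoundedGT
    (fun J : Set (Subgroup G) => J ⊆ fac T ∧ (N ⊓ stabilizer G α) ⊓ sSup J = ⊥) ∅
    ⟨Set.empty_subset _, by simp⟩
  refine ⟨J, hJ.1.1, hJ.1.2, ?_⟩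
  have hdich := dich hprim α hN hT hnc h
  have hJ1 := hJ.1.1
  have hJ2 := hJ.1.2
  have hJ3 := hJ.2
  have hDN : N ⊓ stabilizer G α ≤ N := inf_le_left
  generalize N ⊓ stabilizer G α = D at *
  have hMn : N ≤ normalizer ((sSup J : Subgroup G) : Set G) := sSup_norm hN hT hJ1
  have hDM : ∀ x ∈ D ⊔ sSup J, ∃ d ∈ D, ∃ m ∈ sSup J, x = d * m := by
    intro x hx
    rw [← SetLike.mem_coe, coe_mul_of_left_le_normalizer_right D (sSup J) (hDN.trans hMn),
      Set.mem_mul] at hx
    obtain ⟨d, hd, m, hm, rfl⟩ := hx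
    exact ⟨d, hd, m, hm, rfl⟩
  have key : ∀ A ∈ fac T, A ≤ D ⊔ sSup J := by
    intro A hA
    by_cases hAJ : A ∈ J
    · exact (le_sSup hAJ).trans le_sup_right
    have hne : D ⊓ sSup (insert A J) ≠ ⊥ := by
      intro hb
      have := hJ3 ⟨Set.insert_subset hA hJ1, hb⟩ (Set.subset_insert A J)
      exact hAJ (this (Set.mem_insert A J))
    obtain ⟨e, he, he1⟩ : ∃ e ∈ D ⊓ sSup (insert A J), e ≠ 1 := by
      by_contra hcon
      push Not at hcon
      exact hne ((Subgroup.eq_bot_iff_forall _).2 hcon)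
    obtain ⟨a, ha, b, hb, hab⟩ := mem_sSup_insert hN hT hJ1 hA he.2
    have ha1 : a ≠ 1 := by
      rintro rfl
      rw [one_mul] at hab
      apply he1
      have : e ∈ D ⊓ sSup J := ⟨he.1, hab ▸ hb⟩
      rw [hJ2] at this
      exact Subgroup.mem_bot.1 this
    have haK : a ∈ D ⊔ sSup J := by
      have : a = e * b⁻¹ := by rw [hab]; group
      rw [this]
      exact mul_mem (mem_sup_left he.1) (inv_mem (mem_sup_right hb))
    rcases hdich with hD | hD
    · exfalso
      apply he1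
      have := he.1
      rw [hD] at this
      exact Subgroup.mem_bot.1 this
    have hs : IsSimpleGroup A := (fac_MNin hN hT hA).simple hN
    have hn : ((D ⊔ sSup J).subgroupOf A).Normal := by
      constructor
      intro u hu t
      rw [mem_subgroupOf] at hu ⊢
      obtain ⟨d, hd, c, -, hc, ht⟩ := hD A hA t t.2
      have e1 : ((t * u * t⁻¹ : A) : G) = d * (u : G) * d⁻¹ := by
        push_cast
        rw [ht]
        have := hc u u.2
        calc d * c * (u : G) * (d * c)⁻¹ = d * (c * (u : G)) * c⁻¹ * d⁻¹ := by group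
          _ = d * (u : G) * d⁻¹ := by rw [this]; group
      rw [e1]
      exact mul_mem (mul_mem (mem_sup_left hd) hu) (inv_mem (mem_sup_left hd))
    rcases hn.eq_bot_or_eq_top with hb' | ht'
    · exfalso
      apply ha1
      have : (⟨a, ha⟩ : A) ∈ (D ⊔ sSup J).subgroupOf A := by
        rw [mem_subgroupOf]; exact haK
      rw [hb'] at this
      exact congrArg Subtype.val (Subgroup.mem_bot.1 this)
    · exact subgroupOf_eq_top.1 ht'
  intro x hx
  apply hDM
  have : N ≤ D ⊔ sSup J := by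
    rw [← sSup_fac hN hT]
    exact sSup_le key
  exact this hx

end Cfsg.Agent.Lib.Helper47.CL
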