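import Mathlib
import Cfsg.Agent.Lib.Helper47.CL.Defs
import Cfsg.Agent.Lib.Helper47.CL.NA0
import Cfsg.Agent.Lib.Helper47.CL.NA1
import Cfsg.Agent.Lib.Helper47.CL.REG
import Cfsg.Agent.Lib.Helper47.CL.MUS

set_option autoImplicit false

namespace Cfsg.Agent.Lib.Helper47.CL

open MulAction Subgroup Cfsg.Agent.Lib.Helper40 Cfsg.Agent.Lib.Helper62
open Cfsg.Agent.S3680 (MN)

variable {G Ω : Type*} [Group G] [Finite G] [Finite Ω] [MulAction G Ω] [FaithfulSMul G Ω]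

variable {N T : Subgroup G}

omit [Finite Ω] [FaithfulSMul G Ω] in
theorem NA5_inf (α : Ω) (hN : MN N) (hT : MNin N T) {J : Set (Subgroup G)} (hJ : J ⊆ fac T)
    (h1 : (N ⊓ stabilizer G α) ⊓ sSup J = ⊥) : sSup J ⊓ stabilizer G α = ⊥ := by
  rw [eq_bot_iff, ← h1]
  intro x hx
  exact ⟨⟨sSup_le_N hN hT hJ hx.1, hx.2⟩, hx.1⟩

omit [Finite G] [Finite Ω] in
theorem NA5_trans (hprim : IsPreprimitive G Ω) (α : Ω) (hN : MN N) {M : Subgroup G}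
    (h2 : ∀ x ∈ N, ∃ d ∈ N ⊓ stabilizer G α, ∃ m ∈ M, x = d * m) :
    ∀ y : Ω, ∃ m ∈ M, m • α = y := by
  intro y
  obtain ⟨x, hx, rfl⟩ := Cfsg.Agent.S3680.trans_of_normal hprim N hN.1 hN.2.1 α y
  obtain ⟨d, hd, m, hm, e⟩ := h2 x⁻¹ (N.inv_mem hx)
  refine ⟨m⁻¹, M.inv_mem hm, ?_⟩
  have e1 : x = m⁻¹ * d⁻¹ := by
    rw [← inv_inv x, e]; group
  have e2 : d⁻¹ • α = α := by
    have : d • α = α := mem_stabilizer_iff.1 (mem_inf.1 hd).2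
    rw [inv_smul_eq_iff, this]
  rw [e1, mul_smul, e2]

-- RUNG NA5: consequences of regularity of M = sSup J.
theorem reg_card (hprim : IsPreprimitive G Ω) (α : Ω) (hN : MN N) (hT : MNin N T)
    (hnc : ¬ ∀ a ∈ N, ∀ b ∈ N, a * b = b * a) {J : Set (Subgroup G)} (hJ : J ⊆ fac T)
    (h1 : (N ⊓ stabilizer G α) ⊓ sSup J = ⊥)
    (h2 : ∀ x ∈ N, ∃ d ∈ N ⊓ stabilizer G α, ∃ m ∈ sSup J, x = d * m) :
    Nat.card Ω = Nat.card T ^ J.ncard := by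
  rw [← card_sSup hN hT hnc hJ]
  exact (card_eq_of_regular α (sSup J) (NA5_inf α hN hT hJ h1) (NA5_trans hprim α hN h2)).symm

theorem reg_mu (hprim : IsPreprimitive G Ω) (α : Ω) (hN : MN N) (hT : MNin N T)
    (hnc : ¬ ∀ a ∈ N, ∀ b ∈ N, a * b = b * a) {J : Set (Subgroup G)} (hJ : J ⊆ fac T)
    (h1 : (N ⊓ stabilizer G α) ⊓ sSup J = ⊥)
    (h2 : ∀ x ∈ N, ∃ d ∈ N ⊓ stabilizer G α, ∃ m ∈ sSup J, x = d * m) :
    mu N = mu ↥(N ⊓ stabilizer G α) + J.ncard := by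
  have h3 := mu_sup_add_inf (sSup J) (N ⊓ stabilizer G α)
    (inf_le_left.trans (sSup_norm hN hT hJ))
  have e1 : sSup J ⊔ (N ⊓ stabilizer G α) = N := by
    apply le_antisymm (sup_le (sSup_le_N hN hT hJ) inf_le_left)
    intro x hx
    obtain ⟨d, hd, m, hm, rfl⟩ := h2 x hx
    exact mul_mem (mem_sup_right hd) (mem_sup_left hm)
  have e2 : sSup J ⊓ (N ⊓ stabilizer G α) = ⊥ := by rw [inf_comm, h1]
  rw [e1, e2, mu_bot, mu_sSup hN hT hnc hJ] at h3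
  omega

theorem reg_two (hprim : IsPreprimitive G Ω) (α : Ω) (hN : MN N) (hT : MNin N T)
    (hnc : ¬ ∀ a ∈ N, ∀ b ∈ N, a * b = b * a) {J : Set (Subgroup G)} (hJ : J ⊆ fac T)
    (h1 : (N ⊓ stabilizer G α) ⊓ sSup J = ⊥)
    (h2 : ∀ x ∈ N, ∃ d ∈ N ⊓ stabilizer G α, ∃ m ∈ sSup J, x = d * m) :
    (fac T).ncard ≤ 2 * J.ncard := by
  have htr := NA5_trans hprim α hN h2
  have htr2 : ∀ x y : Ω, ∃ v ∈ sSup J, v • x = y := by
    intro x y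
    obtain ⟨m1, hm1, rfl⟩ := htr x
    obtain ⟨m2, hm2, rfl⟩ := htr y
    exact ⟨m2 * m1⁻¹, mul_mem hm2 (inv_mem hm1), by rw [← mul_smul]; congr 1; group⟩
  have hJ' : fac T \ J ⊆ fac T := Set.sdiff_subset
  have hcomm := sSup_comm' hN hT hJ hJ' Set.disjoint_sdiff_right
  have hsr : sSup (fac T \ J) ⊓ stabilizer G α = ⊥ := by
    rw [Subgroup.eq_bot_iff_forall]
    intro c hc
    exact Cfsg.Agent.S3680.eq_one_of_commute (sSup J) htr2 c (fun v hv => hcomm v hv c hc.1) α hc.2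
  have hle := card_le_of_semiregular α (sSup (fac T \ J)) hsr
  rw [card_sSup hN hT hnc hJ', reg_card hprim α hN hT hnc hJ h1 h2] at hle
  have h4 := four_le_card hN hT hnc
  have h5 : (fac T \ J).ncard ≤ J.ncard := (Nat.pow_le_pow_iff_right (by omega)).1 hle
  have h6 := Set.ncard_sdiff_add_ncard_of_subset hJ (Set.toFinite _)
  omega

end Cfsg.Agent.Lib.Helper47.CL
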