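import Mathlib
import Cfsg.Agent.Lib.Helper47.CL.Defs
import Cfsg.Agent.Lib.Helper47.CL.NA0

set_option autoImplicit false

namespace Cfsg.Agent.Lib.Helper47.CL

open MulAction Subgroup Cfsg.Agent.Lib.Helper40 Cfsg.Agent.Lib.Helper62
open Cfsg.Agent.S3680 (MN)

variable {G Ω : Type*} [Group G] [Finite G] [Finite Ω] [MulAction G Ω] [FaithfulSMul G Ω]

variable {N T : Subgroup G}

-- RUNG NA6
omit [Finite G] [Finite Ω] [FaithfulSMul G Ω] in
theorem Gam_inv (α : Ω) : ∀ h ∈ stabilizer G α, ∀ y ∈ Gam T α, h • y ∈ Gam T α := by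
  rintro h hh y ⟨hy, A, hA, x, hx, rfl⟩
  have hα : h • α = α := hh
  have hα' : h⁻¹ • α = α := by rw [inv_smul_eq_iff, hα]
  refine ⟨?_, cj h A, ?_, h * x * h⁻¹, conj_mem_cj hx, ?_⟩
  · intro hc
    apply hy
    have hc' : h • x • α = h • α := hc.trans hα.symm
    exact smul_left_cancel h hc'
  · obtain ⟨k, rfl⟩ := hA
    exact ⟨h * k, cj_mul h k T⟩
  · rw [mul_smul, mul_smul, hα']

omit [Finite G] [Finite Ω] [FaithfulSMul G Ω] in
theorem Gam_not_mem (α : Ω) : α ∉ Gam T α := fun h => h.1 rfl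

omit [Finite G] [Finite Ω] [FaithfulSMul G Ω] in
theorem Gam_nonempty (α : Ω) (hT : MNin N T) (h : (N ⊓ stabilizer G α) ⊓ T = ⊥) :
    (Gam T α).Nonempty := by
  obtain ⟨x, hx, hx1⟩ : ∃ x : G, x ∈ T ∧ x ≠ 1 := by
    by_contra hcon
    push Not at hcon
    exact hT.2.1 ((Subgroup.eq_bot_iff_forall T).2 hcon)
  refine ⟨x • α, ?_, T, ⟨1, cj_one T⟩, x, hx, rfl⟩
  intro hc
  apply hx1
  have : x ∈ (N ⊓ stabilizer G α) ⊓ T := ⟨⟨hT.1 hx, hc⟩, hx⟩
  rwa [h, mem_bot] at this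

theorem Gam_ncard_le (α : Ω) : (Gam T α).ncard ≤ (fac T).ncard * (Nat.card T - 1) := by
  classical
  have hfin : (fac T).Finite := Set.toFinite _
  have hsub : Gam T α ⊆ ⋃ A ∈ hfin.toFinset, (fun x : G => x • α) '' ((A : Set G) \ {1}) := by
    rintro y ⟨hy, A, hA, x, hx, rfl⟩
    simp only [Set.mem_iUnion]
    refine ⟨A, hfin.mem_toFinset.2 hA, x, ⟨hx, ?_⟩, rfl⟩
    intro h1
    apply hy
    rw [Set.mem_singleton_iff.1 h1, one_smul]
  calc (Gam T α).ncard
      ≤ (⋃ A ∈ hfin.toFinset, (fun x : G => x • α) '' ((A : Set G) \ {1})).ncard :=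
        Set.ncard_le_ncard hsub (Set.toFinite _)
    _ ≤ ∑ A ∈ hfin.toFinset, ((fun x : G => x • α) '' ((A : Set G) \ {1})).ncard :=
        Finset.set_ncard_biUnion_le _ _
    _ ≤ ∑ _A ∈ hfin.toFinset, (Nat.card T - 1) := by
        apply Finset.sum_le_sum
        intro A hA
        have hA' : A ∈ fac T := hfin.mem_toFinset.1 hA
        refine (Set.ncard_image_le (Set.toFinite _)).trans ?_
        rw [Set.ncard_sdiff (by simp), Set.ncard_singleton]
        have : (A : Set G).ncard = Nat.card A := rfl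
        rw [this, fac_card hA']
    _ = (fac T).ncard * (Nat.card T - 1) := by
        rw [Finset.sum_const, smul_eq_mul, Set.ncard_eq_toFinset_card _ hfin]

end Cfsg.Agent.Lib.Helper47.CL
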