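import Mathlib
import Cfsg.Agent.Lib.Helper47.CL.Defs
import Cfsg.Agent.Lib.Helper47.CL.NA0

set_option autoImplicit false

namespace Cfsg.Agent.Lib.Helper47.CL

open MulAction Subgroup Cfsg.Agent.Lib.Helper40 Cfsg.Agent.Lib.Helper62
open Cfsg.Agent.S3680 (MN)

variable {G Ω : Type*} [Group G] [Finite G] [Finite Ω] [MulAction G Ω] [FaithfulSMul G Ω]

variable {N T : Subgroup G}

-- RUNG NA7
theorem Gam_faithful (hprim : IsPreprimitive G Ω) (α : Ω) (hN : MN N) (hT : MNin N T)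
    (hnc : ¬ ∀ a ∈ N, ∀ b ∈ N, a * b = b * a) (h : (N ⊓ stabilizer G α) ⊓ T = ⊥) :
    ∀ h ∈ stabilizer G α, (∀ y ∈ Gam T α, h • y = y) → h = 1 := by
  intro g hg hfix
  have hgα : g • α = α := hg
  have hgα' : g⁻¹ • α = α := by rw [inv_smul_eq_iff, hgα]
  -- e_x ∈ D
  have hD : ∀ A ∈ fac T, ∀ x ∈ A, x⁻¹ * (g * x * g⁻¹) ∈ N ⊓ stabilizer G α := by
    intro A hA x hx
    have hxN : x ∈ N := (fac_MNin hN hT hA).1 hx
    refine ⟨N.mul_mem (N.inv_mem hxN) (hN.1.conj_mem x hxN g), ?_⟩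
    have h1 : g • x • α = x • α := by
      by_cases hxα : x • α = α
      · rw [hxα, hgα]
      · exact hfix _ ⟨hxα, A, hA, x, hx, rfl⟩
    change (x⁻¹ * (g * x * g⁻¹)) • α = α
    rw [mul_smul, mul_smul, mul_smul, hgα', h1, inv_smul_smul]
  -- g normalizes each factor
  have hfix2 : ∀ A ∈ fac T, cj g A = A := by
    intro A hA
    by_contra hne
    have hA' : cj g A ∈ fac T := by
      obtain ⟨k, rfl⟩ := hA
      exact ⟨g * k, cj_mul g k T⟩
    have hcomm := fac_comm hN hT hA hA' (Ne.symm hne)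
    obtain ⟨a, ha, b, hb, hab⟩ := (fac_MNin hN hT hA).noncomm hN hnc
    apply hab
    have hbot := inf_fac_eq_bot hprim α hN hT h hA
    have h1 := hD A hA a ha
    have h2 := hD A hA b hb
    have h3 := hD A hA (a * b) (A.mul_mem ha hb)
    have h4 : a⁻¹ * b⁻¹ * a * b ∈ (N ⊓ stabilizer G α) ⊓ A := by
      refine ⟨?_, A.mul_mem (A.mul_mem (A.mul_mem (A.inv_mem ha) (A.inv_mem hb)) ha) hb⟩
      have h5 := (N ⊓ stabilizer G α).mul_mem ((N ⊓ stabilizer G α).mul_mem h1 h2)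
        ((N ⊓ stabilizer G α).inv_mem h3)
      have hc : (g * a * g⁻¹) * b⁻¹ = b⁻¹ * (g * a * g⁻¹) :=
        (hcomm b⁻¹ (A.inv_mem hb) _ (conj_mem_cj ha)).symm
      have e : a⁻¹ * (g * a * g⁻¹) * (b⁻¹ * (g * b * g⁻¹)) * ((a * b)⁻¹ * (g * (a * b) * g⁻¹))⁻¹
          = a⁻¹ * b⁻¹ * a * b := by
        calc a⁻¹ * (g * a * g⁻¹) * (b⁻¹ * (g * b * g⁻¹)) * ((a * b)⁻¹ * (g * (a * b) * g⁻¹))⁻¹
            = a⁻¹ * ((g * a * g⁻¹) * b⁻¹) * (g * b * g⁻¹) * ((a * b)⁻¹ * (g * (a * b) * g⁻¹))⁻¹ := by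
              group
          _ = a⁻¹ * (b⁻¹ * (g * a * g⁻¹)) * (g * b * g⁻¹) * ((a * b)⁻¹ * (g * (a * b) * g⁻¹))⁻¹ := by
              rw [hc]
          _ = a⁻¹ * b⁻¹ * a * b := by group
      rw [e] at h5
      exact h5
    rw [hbot, mem_bot] at h4
    calc a * b = b * a * (a⁻¹ * b⁻¹ * a * b) := by group
      _ = b * a := by rw [h4, mul_one]
  -- g centralizes each factor
  have hcent : ∀ A ∈ fac T, ∀ x ∈ A, x * g = g * x := by
    intro A hA x hx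
    have hbot := inf_fac_eq_bot hprim α hN hT h hA
    have h1 : x⁻¹ * (g * x * g⁻¹) ∈ (N ⊓ stabilizer G α) ⊓ A := by
      refine ⟨hD A hA x hx, A.mul_mem (A.inv_mem hx) ?_⟩
      have := conj_mem_cj (g := g) hx
      rwa [hfix2 A hA] at this
    rw [hbot, mem_bot] at h1
    calc x * g = x * (x⁻¹ * (g * x * g⁻¹)) * g := by rw [h1, mul_one]
      _ = g * x := by group
  have hcentN : N ≤ centralizer {g} := by
    rw [← sSup_fac hN hT]
    apply sSup_le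
    intro A hA x hx
    rw [mem_centralizer_singleton_iff]
    exact hcent A hA x hx
  apply Cfsg.Agent.S3680.eq_one_of_commute N
    (Cfsg.Agent.S3680.trans_of_normal hprim N hN.1 hN.2.1) g _ α hgα
  intro v hv
  exact mem_centralizer_singleton_iff.1 (hcentN hv)

end Cfsg.Agent.Lib.Helper47.CL
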