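import Mathlib
import Cfsg.Agent.Lib.Helper47.CL.MUO
import Cfsg.Agent.Lib.Helper47.CL.MUB
import Cfsg.Agent.Lib.Helper47.CL.MUC
import Cfsg.Agent.Lib.Helper47.CL.MUGE
import Cfsg.Agent.Lib.Helper47.CL.MUM
import Cfsg.Agent.Lib.Helper47.CL.MULE
import Cfsg.Agent.Lib.Helper47.CL.MUS
import Cfsg.Agent.Lib.Helper47.CL.ORB
import Cfsg.Agent.Lib.Helper47.CL.TR
import Cfsg.Agent.Lib.Helper47.CL.KER
import Cfsg.Agent.Lib.Helper47.CL.SUB
import Cfsg.Agent.Lib.Helper47.CL.TRIV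
import Cfsg.Agent.Lib.Helper47.CL.INTR
import Cfsg.Agent.Lib.Helper47.CL.IMPR
import Cfsg.Agent.Lib.Helper47.CL.PS
import Cfsg.Agent.Lib.Helper47.CL.PG
import Cfsg.Agent.Lib.Helper47.CL.REG
import Cfsg.Agent.Lib.Helper47.CL.AFFR
import Cfsg.Agent.Lib.Helper47.CL.AFF1
import Cfsg.Agent.Lib.Helper47.CL.AFFO
import Cfsg.Agent.Lib.Helper47.CL.NUM
import Cfsg.Agent.Lib.Helper47.CL.AFFT
import Cfsg.Agent.Lib.Helper47.CL.NA0
import Cfsg.Agent.Lib.Helper47.CL.NA1
import Cfsg.Agent.Lib.Helper47.CL.NA2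
import Cfsg.Agent.Lib.Helper47.CL.NA3
import Cfsg.Agent.Lib.Helper47.CL.NA4
import Cfsg.Agent.Lib.Helper47.CL.NA5
import Cfsg.Agent.Lib.Helper47.CL.NA6
import Cfsg.Agent.Lib.Helper47.CL.NA7

set_option autoImplicit false

namespace Cfsg.Agent.Lib.Helper47.CL

open MulAction Subgroup Cfsg.Agent.Lib.Helper40 Cfsg.Agent.Lib.Helper62
open Cfsg.Agent.S3680 (MN)

variable {G Ω : Type*} [Group G] [Finite G] [Finite Ω] [MulAction G Ω] [FaithfulSMul G Ω]

theorem aff_bd (hprim : IsPreprimitive G Ω) (hg : ∀ m < Nat.card Ω, Good m) (α : Ω)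
    {N : Subgroup G} (hN : MN N) (hab : ∀ a ∈ N, ∀ b ∈ N, a * b = b * a) : Bd G Ω := by
  by_cases h1 : ∀ β γ : Ω, β ≠ α → γ ≠ α → ∃ h ∈ stabilizer G α, h • β = γ
  · exact aff_trans hprim hg α hN hab h1
  · push Not at h1
    obtain ⟨β, γ, hβ, hγ, h⟩ := h1
    exact aff_two_orbits hprim hg α hN hab ⟨β, γ, hβ, hγ, h⟩

theorem nab_bd (hprim : IsPreprimitive G Ω) (hg : ∀ m < Nat.card Ω, Good m) (h2 : 2 ≤ Nat.card Ω)
    (α : Ω) {N : Subgroup G} (hN : MN N) (hnc : ¬ ∀ a ∈ N, ∀ b ∈ N, a * b = b * a) : Bd G Ω := by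
  obtain ⟨T, hT⟩ := exists_MNin hN.2.1
  by_cases hX : (N ⊓ stabilizer G α) ⊓ T = ⊥
  · obtain ⟨J, hJ, hJ1, hJ2⟩ := exists_regular hprim α hN hT hnc hX
    have hc := reg_card hprim α hN hT hnc hJ hJ1 hJ2
    have hm := reg_mu hprim α hN hT hnc hJ hJ1 hJ2
    have hk := reg_two hprim α hN hT hnc hJ hJ1 hJ2
    by_cases hL : J.ncard ≤ 1
    · exact prim_of_le hprim hg h2 α hN (by omega)
    · refine prim_of_sub hprim hg α hN (Gam T α) (Gam_inv α) (Gam_not_mem α)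
        (Gam_nonempty α hT hX) (Gam_faithful hprim α hN hT hnc hX) ?_
      have := numC (four_le_card hN hT hnc) (by omega : 2 ≤ J.ncard) hk (Gam_ncard_le (T := T) α)
      rw [hc, hm]
      omega
  · exact prim_of_le hprim hg h2 α hN (by have := caseX hprim α hN hT hnc hX; omega)

theorem prim_bd (hprim : IsPreprimitive G Ω) (hg : ∀ m < Nat.card Ω, Good m)
    (h2 : 2 ≤ Nat.card Ω) : Bd G Ω := by
  have hne : Nonempty Ω := by
    by_contra hcon
    rw [not_nonempty_iff] at hcon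
    simp at h2
  obtain ⟨α⟩ := hne
  have hnt : ∃ g : G, g ≠ 1 := by
    by_contra hcon
    push Not at hcon
    have : Nat.card Ω ≤ 1 := by
      rw [Finite.card_le_one_iff_subsingleton]
      constructor
      intro x y
      obtain ⟨g, hg⟩ := hprim.toIsPretransitive.exists_smul_eq x y
      rw [hcon g, one_smul] at hg
      exact hg
    omega
  obtain ⟨N, hN⟩ := Cfsg.Agent.S3680.exists_MN hnt
  by_cases hab : ∀ a ∈ N, ∀ b ∈ N, a * b = b * a
  · exact aff_bd hprim hg α hN hab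
  · exact nab_bd hprim hg h2 α hN hab

theorem bd_of_good_lt (hg : ∀ m < Nat.card Ω, Good m) : Bd G Ω := by
  by_cases h1 : Nat.card Ω ≤ 1
  · exact triv_bd h1
  by_cases ht : IsPretransitive G Ω
  · by_cases hp : IsPreprimitive G Ω
    · exact prim_bd hp hg (by omega)
    · exact imprim_bd hg ht hp
  · exact intrans_bd hg ht

theorem good_all (n : ℕ) : Good n := by
  induction n using Nat.strong_induction_on with
  | _ n ih =>
    intro S
    apply bd_of_good_lt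
    intro m hm
    apply ih
    simpa using hm

theorem main {G Ω : Type*} [Group G] [Finite G] [MulAction G Ω] [FaithfulSMul G Ω] [Finite Ω]
    {l : ℕ} (h : SubCh G l) : 3 * l + 4 * orb G Ω ≤ 4 * Nat.card Ω := by
  have h1 : Bd G Ω := (good_all _).bd rfl
  have h2 := le_mu h
  unfold Bd at h1
  omega

end Cfsg.Agent.Lib.Helper47.CL
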