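import Mathlib
import Cfsg.Agent.Lib.Helper47.CL.Defs
import Cfsg.Agent.Lib.Helper47.CL.NA0
import Cfsg.Agent.Lib.Helper47.CL.NA1
import Cfsg.Agent.Lib.Helper47.CL.MUM

set_option autoImplicit false

namespace Cfsg.Agent.Lib.Helper47.CL

open MulAction Subgroup Cfsg.Agent.Lib.Helper40 Cfsg.Agent.Lib.Helper62
open Cfsg.Agent.S3680 (MN)

variable {G Ω : Type*} [Group G] [Finite G] [Finite Ω] [MulAction G Ω] [FaithfulSMul G Ω]

variable {N T : Subgroup G}

theorem NA2_ind (hprim : IsPreprimitive G Ω) (α : Ω) (hN : MN N) (hT : MNin N T)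
    (hnc : ¬ ∀ a ∈ N, ∀ b ∈ N, a * b = b * a) (h : (N ⊓ stabilizer G α) ⊓ T ≠ ⊥)
    {J : Set (Subgroup G)} (hJ : J ⊆ fac T) :
    J.ncard ≤ mu ↥((N ⊓ stabilizer G α) ⊓ sSup J) := by
  have hfin : J.Finite := Set.toFinite J
  induction J, hfin using Set.Finite.induction_on with
  | empty => simp
  | @insert A J hAJ hJf ih =>
    have hA : A ∈ fac T := hJ (Set.mem_insert A J)
    have hJ' : J ⊆ fac T := (Set.subset_insert A J).trans hJ
    have hle : sSup J ≤ sSup (insert A J) := sSup_le_sSup (Set.subset_insert A J)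
    have hAle : A ≤ sSup (insert A J) := le_sSup (Set.mem_insert A J)
    have hlt : (N ⊓ stabilizer G α) ⊓ sSup J < (N ⊓ stabilizer G α) ⊓ sSup (insert A J) := by
      refine lt_of_le_of_ne (inf_le_inf_left _ hle) ?_
      intro heq
      apply inf_fac_ne_bot hprim α hN hT h hA
      rw [eq_bot_iff]
      intro d hd
      have h1 : d ∈ (N ⊓ stabilizer G α) ⊓ sSup (insert A J) := ⟨hd.1, hAle hd.2⟩
      rw [← heq] at h1
      have h2 : d ∈ A ⊓ sSup J := ⟨hd.2, h1.2⟩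
      rw [inf_sSup hN hT hnc hJ' hA hAJ] at h2
      exact h2
    have hnorm : (N ⊓ stabilizer G α) ⊓ sSup (insert A J) ≤
        normalizer (((N ⊓ stabilizer G α) ⊓ sSup J : Subgroup G) : Set G) := by
      intro x hx
      have hxD : x ∈ N ⊓ stabilizer G α := hx.1
      have hxn := sSup_norm hN hT hJ' hxD.1
      rw [mem_normalizer_iff] at hxn ⊢
      intro y
      constructor
      · rintro ⟨hy1, hy2⟩
        exact ⟨(N ⊓ stabilizer G α).mul_mem ((N ⊓ stabilizer G α).mul_mem hxD hy1)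
          ((N ⊓ stabilizer G α).inv_mem hxD), (hxn y).1 hy2⟩
      · rintro ⟨hy1, hy2⟩
        refine ⟨?_, (hxn y).2 hy2⟩
        have : y = x⁻¹ * (x * y * x⁻¹) * x := by group
        rw [this]
        exact (N ⊓ stabilizer G α).mul_mem ((N ⊓ stabilizer G α).mul_mem
          ((N ⊓ stabilizer G α).inv_mem hxD) hy1) hxD
    have h3 := mu_lt_of_normal_lt hlt hnorm
    have h4 := ih hJ'
    rw [Set.ncard_insert_of_notMem hAJ hJf]
    omega

-- RUNG NA2 (file NA2.lean; imports NA0 NA1 MUM).  Case X.  D = N ⊓ H.  By induction on finite J ⊆ fac T: J.ncard ≤ mu ↥(D ⊓ sSup J):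
-- D ⊓ sSup J is normal in D ⊓ sSup (insert A J) and strictly smaller (it misses D ⊓ A ≠ ⊥ as A ⊓ sSup J = ⊥): mu_lt_of_normal_lt.
-- J = fac T: D ⊓ N = D, and mu N = (fac T).ncard by mu_sSup, sSup_fac.
theorem caseX (hprim : IsPreprimitive G Ω) (α : Ω) (hN : MN N) (hT : MNin N T)
    (hnc : ¬ ∀ a ∈ N, ∀ b ∈ N, a * b = b * a) (h : (N ⊓ stabilizer G α) ⊓ T ≠ ⊥) :
    mu N ≤ mu ↥(N ⊓ stabilizer G α) := by
  have h1 := NA2_ind hprim α hN hT hnc h (J := fac T) subset_rfl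
  have h2 := mu_sSup hN hT hnc (J := fac T) subset_rfl
  rw [sSup_fac hN hT] at h1 h2
  have h3 : (N ⊓ stabilizer G α) ⊓ N = N ⊓ stabilizer G α := inf_eq_left.2 inf_le_left
  rw [h3] at h1
  omega

end Cfsg.Agent.Lib.Helper47.CL
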