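import Mathlib
import Cfsg.Agent.Lib.Helper47.CL.Defs
import Cfsg.Agent.Lib.Helper47.CL.MUB
import Cfsg.Agent.Lib.Helper47.CL.ORB

set_option autoImplicit false

namespace Cfsg.Agent.Lib.Helper47.CL

open MulAction Subgroup

-- RUNG TRIV
theorem triv_bd {X Y : Type*} [Group X] [Finite Y] [MulAction X Y] [FaithfulSMul X Y]
    (h : Nat.card Y ≤ 1) : Bd X Y := by
  have hs : Subsingleton Y := (Finite.card_le_one_iff_subsingleton).1 h
  have hX : Subsingleton X := by
    constructor
    intro a b
    apply FaithfulSMul.eq_of_smul_eq_smul (α := Y)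
    intro y
    exact Subsingleton.elim _ _
  unfold Bd
  rw [mu_eq_zero]
  have := orb_le_card (X := X) (Y := Y)
  omega

end Cfsg.Agent.Lib.Helper47.CL
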